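import Cfsg.Agent.SixSym.Table
import Cfsg.Agent.Lib.AltAutThree
import Cfsg.Agent.S0497

/-!
# The group of order 720 is the symmetric group of degree six
-/

set_option autoImplicit false
set_option linter.unusedSectionVars false
set_option linter.style.haveILetI false

namespace Cfsg.Agent.SixSym

open Cfsg Cfsg.Agent Subgroup Equiv
open scoped Classical
open Cfsg.Agent.ThreeNine (coord coord_zero coord_mem)

universe u

variable {G : Type u} [Group G] [Fintype G] {S : Subgroup G} {e f ρ σ : G}

/-- `flipSnd` as a permutation. -/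
def flipPerm : Perm (Fin 3 × Fin 3) :=
  ⟨flipSnd, flipSnd, by decide, by decide⟩

/-- `rot` as a permutation. -/
def rotPerm : Perm (Fin 3 × Fin 3) :=
  ⟨rot, fun p => rot (rot (rot p)), by decide, by decide⟩

theorem sign_flipPerm : Perm.sign flipPerm = -1 := by decide +kernel

theorem sign_rotPerm : Perm.sign rotPerm = 1 := by decide +kernel

/-- A subgroup of order prime to 3 normalised by `S` is trivial. -/
theorem no_invariant (hS : Setting S) (hG : Nat.card G = 720) (K : Subgroup G)
    (hK : ¬ 3 ∣ Nat.card K) (hinv : ∀ s ∈ S, ∀ k ∈ K, s * k * s⁻¹ ∈ K) : K = ⊥ := by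
  have hKS : ∀ k ∈ K, k ∈ S → k = 1 := by
    intro k hk hkS
    by_contra hk1
    haveI : Fact (Nat.Prime 3) := ⟨Nat.prime_three⟩
    exact hK (orderOf_eq_prime (hS.exp3 _ hkS) hk1 ▸ Subgroup.orderOf_dvd_natCard _ hk)
  have hfree : ∀ s ∈ S, s ≠ 1 → ∀ k ∈ K, s * k * s⁻¹ = k → k = 1 := by
    intro s hs hs1 k hk hsk
    have hkN : k ∈ normalizer (S : Set G) := hS.cent_le s hs hs1
      (mem_centralizer_singleton_iff.2 (mul_inv_eq_iff_eq_mul.1 hsk).symm)
    refine hKS k hk (hS.mem_of_fix fun a ha => ?_)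
    have h1 : k * a * k⁻¹ * a⁻¹ ∈ S :=
      S.mul_mem ((mem_normalizer_iff.1 hkN a).1 ha) (S.inv_mem ha)
    have h2 : k * a * k⁻¹ * a⁻¹ ∈ K := by
      rw [show k * a * k⁻¹ * a⁻¹ = k * (a * k⁻¹ * a⁻¹) by group]
      exact K.mul_mem hk (hinv a ha _ (K.inv_mem hk))
    exact mul_inv_eq_one.1 (hKS _ h2 h1)
  have hsemi : ∀ L : Subgroup G, L ≤ K → (∀ s ∈ S, ∀ k ∈ L, s * k * s⁻¹ ∈ L) →
      Nat.card L % 9 = 1 := by
    intro L hLK hL
    let X := {x : L // x ≠ 1}
    letI : MulAction S X :=
      { smul := fun s x => ⟨⟨s * x.1 * (s : G)⁻¹, hL s s.2 _ x.1.2⟩, fun h => x.2 (Subtype.ext (by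
          have h' : (s : G) * x.1 * (s : G)⁻¹ = 1 := congrArg Subtype.val h
          rw [mul_inv_eq_one, mul_eq_left] at h'
          exact h'))⟩
        one_smul := fun x => Subtype.ext (Subtype.ext (by
          show ((1 : S) : G) * x.1 * ((1 : S) : G)⁻¹ = x.1
          simp))
        mul_smul := fun a b x => Subtype.ext (Subtype.ext (by
          show ((a * b : S) : G) * x.1 * ((a * b : S) : G)⁻¹ =
            (a : G) * ((b : G) * x.1 * (b : G)⁻¹) * (a : G)⁻¹
          rw [Subgroup.coe_mul]; group)) }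
    have hstab : ∀ x : X, MulAction.stabilizer S x = ⊥ := fun x => by
      refine eq_bot_iff.2 fun s hs => ?_
      rw [mem_bot]
      by_contra hs1
      exact x.2 (Subtype.ext (hfree s s.2 (fun e => hs1 (Subtype.ext e)) _ (hLK x.1.2)
        (congrArg (fun y : X => ((y : L) : G)) (MulAction.mem_stabilizer_iff.1 hs))))
    have h9 : 9 ∣ Nat.card X := by
      rw [Nat.card_congr (MulAction.selfEquivSigmaOrbitsQuotientStabilizer S X), Nat.card_sigma]
      refine Finset.dvd_sum fun ω _ => ?_
      rw [hstab, ← Subgroup.index_eq_card, Subgroup.index_bot, hS.card]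
    have hcard : Nat.card L = Nat.card X + 1 := by
      rw [← Nat.card_congr (Equiv.sumCompl (fun x : L => x ≠ 1)), Nat.card_sum]
      congr 1
      rw [Nat.card_eq_one_iff_unique]
      exact ⟨⟨fun a b => Subtype.ext ((not_not.1 a.2).trans (not_not.1 b.2).symm)⟩,
        ⟨⟨1, not_not.2 rfl⟩⟩⟩
    omega
  have hK9 := hsemi K le_rfl hinv
  have hdvd : Nat.card K ∣ 720 := hG ▸ K.card_subgroup_dvd_card
  have h110 : Nat.card K = 1 ∨ Nat.card K = 10 := by
    have hcop : Nat.Coprime (Nat.card K) 9 :=
      ((Nat.Prime.coprime_iff_not_dvd Nat.prime_three).2 hK).symm.pow_right 2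
    have h80 : Nat.card K ∣ 80 := hcop.dvd_of_dvd_mul_right (n := 9) (show Nat.card K ∣ 80 * 9 from hdvd)
    have := Nat.le_of_dvd (by norm_num) h80
    have : 0 < Nat.card K := Nat.card_pos
    interval_cases h : Nat.card K <;> omega
  rcases h110 with h | h
  · exact Subgroup.eq_bot_of_card_eq _ h
  exfalso
  haveI : Fact (Nat.Prime 5) := ⟨by norm_num⟩
  let L₀ : Sylow 5 K := default
  have h5 : Nat.card (L₀ : Subgroup K) = 5 :=
    (SmallGroups.card_sylow_subgroup (a := 1) (m := 2) (by rw [h]; norm_num) (by norm_num) L₀).trans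
      (pow_one 5)
  have huniq : Nat.card (Sylow 5 K) = 1 := by
    have h1 := card_sylow_modEq_one 5 K
    have h2 := L₀.card_dvd_index
    have h3 := (L₀ : Subgroup K).card_mul_index
    rw [h5, h] at h3
    have h4 : (L₀ : Subgroup K).index = 2 := by omega
    rw [h4] at h2
    rcases (Nat.dvd_prime Nat.prime_two).1 h2 with e | e
    · exact e
    · rw [e] at h1; exact absurd h1 (by decide)
  set L : Subgroup G := (L₀ : Subgroup K).map K.subtype
  have hL5 : Nat.card L = 5 := by
    rw [← h5]
    exact (Nat.card_congr ((L₀ : Subgroup K).equivMapOfInjective _ K.subtype_injective).toEquiv).symm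
  have hmemL : ∀ x, x ∈ L ↔ x ∈ K ∧ x ^ 5 = 1 := by
    intro x
    constructor
    · rintro ⟨y, hy, rfl⟩
      refine ⟨y.2, ?_⟩
      have h1 : (⟨y, hy⟩ : (L₀ : Subgroup K)) ^ 5 = 1 :=
        orderOf_dvd_iff_pow_eq_one.1 ((_root_.orderOf_dvd_natCard _).trans h5.dvd)
      exact congrArg (fun z : (L₀ : Subgroup K) => ((z : K) : G)) h1
    · rintro ⟨hxK, hx5⟩
      have hp : IsPGroup 5 (zpowers (⟨x, hxK⟩ : K)) := by
        rintro ⟨y, hy⟩
        obtain ⟨i, rfl⟩ := mem_zpowers_iff.1 hy
        refine ⟨1, Subtype.ext ?_⟩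
        show ((⟨x, hxK⟩ : K) ^ i) ^ (5 ^ 1) = 1
        have hx5' : (⟨x, hxK⟩ : K) ^ 5 = 1 := Subtype.ext hx5
        rw [pow_one, ← zpow_natCast, zpow_comm, zpow_natCast, hx5', one_zpow]
      obtain ⟨Q, hQ⟩ := hp.exists_le_sylow
      haveI := (Nat.card_eq_one_iff_unique.1 huniq).1
      rw [Subsingleton.elim Q L₀] at hQ
      exact ⟨⟨x, hxK⟩, hQ (mem_zpowers _), rfl⟩
  have := hsemi L (fun x hx => ((hmemL x).1 hx).1) fun s hs k hk => by
    rw [hmemL] at hk ⊢
    exact ⟨hinv s hs k hk.1, by rw [conj_pow, hk.2, mul_one, mul_inv_cancel]⟩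
  omega

/-- The sign of the action of an element of `N(S)` on the ten Sylow 3-subgroups. -/
theorem sign_normalizer (hS : Setting S) (F : Frame S e f ρ σ) {P : Sylow 3 G}
    (hP : (P : Subgroup G) = S) (hX : Nat.card (Sylow 3 G) = 10) {n : G}
    (hn : n ∈ normalizer (S : Set G)) (g : Perm (Fin 3 × Fin 3))
    (hg : ∀ p, n * coord e f p * n⁻¹ = coord e f (g p)) :
    Perm.sign (MulAction.toPermHom G (Sylow 3 G) n) = Perm.sign g := by
  haveI : Fact (Nat.Prime 3) := ⟨Nat.prime_three⟩
  set φ := MulAction.toPermHom G (Sylow 3 G)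
  have hsgn : ∀ s ∈ S, Perm.sign (φ s) = 1 := by
    intro s hs
    have h1 : Perm.sign (φ s) ^ 3 = 1 := by rw [← map_pow, ← map_pow, hS.exp3 s hs, map_one, map_one]
    rcases Int.units_eq_one_or (Perm.sign (φ s)) with h | h
    · exact h
    · rw [h] at h1; exact absurd h1 (by decide)
  have hfix : ∀ m ∈ normalizer (S : Set G), m • P = P := fun m hm =>
    Sylow.smul_eq_iff_mem_normalizer.2 (by rw [← hP] at hm; exact hm)
  obtain ⟨Q₀, hQ₀⟩ : ∃ Q₀ : Sylow 3 G, Q₀ ≠ P := by
    haveI : Nontrivial (Sylow 3 G) := Finite.one_lt_card_iff_nontrivial.1 (by omega)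
    exact exists_ne P
  let F₀ : Option (Fin 3 × Fin 3) → Sylow 3 G := fun o =>
    o.elim P fun p => coord e f p • Q₀
  have hinj : Function.Injective F₀ := by
    have hne : ∀ p, coord e f p • Q₀ ≠ P := fun p h => hQ₀ (MulAction.injective (coord e f p)
      (h.trans (hfix _ (le_normalizer (coord_mem F.he F.hf p))).symm))
    rintro (_ | p) (_ | q) hpq
    · rfl
    · exact absurd hpq.symm (hne q)
    · exact absurd hpq (hne p)
    · by_contra hne'
      refine hQ₀ (hS.sylow_fixed hP Q₀
        ⟨(coord e f q)⁻¹ * coord e f p, S.mul_mem (S.inv_mem (coord_mem F.he F.hf q))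
          (coord_mem F.he F.hf p)⟩ (fun h => hne' ?_) ?_)
      · rw [F.inj (inv_mul_eq_one.1 (congrArg Subtype.val h)).symm]
      · rw [mul_smul, show coord e f p • Q₀ = coord e f q • Q₀ from hpq, inv_smul_smul]
  have hbij : Function.Bijective F₀ := (Fintype.bijective_iff_injective_and_card _).2 ⟨hinj, by
    rw [← Nat.card_eq_fintype_card, ← Nat.card_eq_fintype_card, hX]; simp⟩
  obtain ⟨o, ho⟩ := hbij.2 (n • Q₀)
  rcases o with _ | p₁
  · exact absurd (MulAction.injective n ((ho.symm.trans (hfix n hn).symm))) hQ₀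
  have ho' : coord e f p₁ • Q₀ = n • Q₀ := ho
  set s₁ := coord e f p₁
  set m := s₁⁻¹ * n with hm
  have hmQ : m • Q₀ = Q₀ := by rw [hm, mul_smul, ← ho', inv_smul_smul]
  have hs₁ : s₁ ∈ S := coord_mem F.he F.hf p₁
  have hmN : m ∈ normalizer (S : Set G) := mul_mem (le_normalizer (S.inv_mem hs₁)) hn
  have hmg : ∀ p, m * coord e f p * m⁻¹ = coord e f (g p) := fun p => by
    rw [hm, show s₁⁻¹ * n * coord e f p * (s₁⁻¹ * n)⁻¹ = s₁⁻¹ * (n * coord e f p * n⁻¹) * s₁ by
      group, hg, (hS.comm _ (S.inv_mem hs₁) _ (coord_mem F.he F.hf (g p))).eq, inv_mul_cancel_right]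
  let E := Equiv.ofBijective F₀ hbij
  have hperm : φ m = E.permCongr (Equiv.optionCongr g) := by
    refine Equiv.ext fun Q => ?_
    obtain ⟨o, rfl⟩ := E.surjective Q
    rw [Equiv.permCongr_apply, Equiv.symm_apply_apply]
    rcases o with _ | p
    · exact hfix m hmN
    · show m • coord e f p • Q₀ = coord e f (g p) • Q₀
      rw [← mul_smul, show m * coord e f p = coord e f (g p) * m by
        rw [← hmg, inv_mul_cancel_right], mul_smul, hmQ]
  have h1 : n = s₁ * m := by rw [hm, mul_inv_cancel_left]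
  rw [h1, map_mul, map_mul, hsgn s₁ hs₁, one_mul, hperm, Perm.sign_permCongr,
    Equiv.optionCongr_sign]

theorem nonempty_equiv_perm (hS : Setting S) (hnn : ¬ S.Normal) :
    Nonempty (G ≃* Perm (Fin 6)) := by
  haveI : Fact (Nat.Prime 3) := ⟨Nat.prime_three⟩
  have hG := hS.card_eq_720 hnn
  obtain ⟨e, f, ρ, σ, F⟩ := hS.exists_frame
  have h := F.eighteen hS
  obtain ⟨P, hP⟩ := hS.sylow
  have hX : Nat.card (Sylow 3 G) = 10 := by
    have h1 : (normalizer (S : Set G)).index = Nat.card (Sylow 3 G) := by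
      rw [← hP]; exact (Sylow.card_eq_index_normalizer P).symm
    have h2 := (normalizer (S : Set G)).card_mul_index
    rw [hS.card_normalizer, h1, hG] at h2
    omega
  set φ := MulAction.toPermHom G (Sylow 3 G)
  set sg : G →* ℤˣ := Perm.sign.comp φ with hsg
  have hσ : sg σ = -1 :=
    (sign_normalizer hS F hP hX F.σN flipPerm F.actσ).trans sign_flipPerm
  have hρ : sg ρ = 1 := (sign_normalizer hS F hP hX F.ρN rotPerm F.actρ).trans sign_rotPerm
  set H := sg.ker with hH
  have hmemH : ∀ x, x ∈ H ↔ sg x = 1 := fun x => MonoidHom.mem_ker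
  have hcube : ∀ x : G, x ^ 3 = 1 → x ∈ H := fun x hx => by
    rw [hmemH]
    rcases Int.units_eq_one_or (sg x) with h1 | h1
    · exact h1
    · have := map_pow sg x 3
      rw [hx, map_one, h1] at this
      exact absurd this.symm (by decide)
  have hflipH : ∀ x, x ∉ H → σ * x ∈ H := fun x hx => by
    rw [hmemH] at hx ⊢
    rw [map_mul, hσ, (Int.units_eq_one_or (sg x)).resolve_left hx]; decide
  have hHcard : Nat.card H = 360 := by
    have h1 : sg.range = ⊤ := by
      rw [MonoidHom.range_eq_top]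
      intro y
      rcases Int.units_eq_one_or y with rfl | rfl
      · exact ⟨1, map_one _⟩
      · exact ⟨σ, hσ⟩
    have h2 := H.card_mul_index
    rw [hH, Subgroup.index_ker, h1, Subgroup.card_top,
      show Nat.card ℤˣ = 2 by rw [Nat.card_eq_fintype_card, Fintype.card_units_int], hG] at h2
    rw [hH]
    omega
  -- conjugacy inside `H`
  have hconjH : ∀ x : G, x ^ 3 = 1 → ∃ g ∈ H, g * x * g⁻¹ ∈ S := by
    intro x hx
    obtain ⟨g, hg⟩ := h.conj_mem hx
    by_cases hgH : g ∈ H
    · exact ⟨g, hgH, hg⟩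
    · refine ⟨σ * g, hflipH g hgH, ?_⟩
      rw [show σ * g * x * (σ * g)⁻¹ = σ * (g * x * g⁻¹) * σ⁻¹ by group]
      exact (mem_normalizer_iff.1 F.σN _).1 hg
  have hρpow : ∀ (k : ℕ) p, ρ ^ k * coord e f p * (ρ ^ k)⁻¹ = coord e f (rot^[k] p) := by
    intro k
    induction k with
    | zero => intro p; simp
    | succ k ih =>
      intro p
      rw [pow_succ, show ρ ^ k * ρ * coord e f p * (ρ ^ k * ρ)⁻¹ =
        ρ ^ k * (ρ * coord e f p * ρ⁻¹) * (ρ ^ k)⁻¹ by group, F.actρ, ih,
        Function.iterate_succ_apply]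
  have hρH : ρ ∈ H := (hmemH ρ).2 hρ
  -- a non-trivial normal subgroup of `H` contains every element of order 3
  have hcontains : ∀ K : Subgroup G, K ≤ H → (∀ x ∈ H, ∀ k ∈ K, x * k * x⁻¹ ∈ K) → K ≠ ⊥ →
      ∀ x, x ^ 3 = 1 → x ∈ K := by
    intro K hKH hK hKbot
    have h3 : 3 ∣ Nat.card K := by
      by_contra h3
      exact hKbot (no_invariant hS hG K h3 fun s hs => hK s (hcube s (hS.exp3 s hs)))
    obtain ⟨⟨k, hk⟩, hk3⟩ := exists_prime_orderOf_dvd_card' 3 h3
    rw [← Subgroup.orderOf_coe] at hk3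
    simp only at hk3
    have hkc : k ^ 3 = 1 := by rw [← hk3, pow_orderOf_eq_one]
    obtain ⟨g, hgH, hgS⟩ := hconjH k hkc
    obtain ⟨p, hp⟩ := F.surj hS hgS
    have hpK : coord e f p ∈ K := hp ▸ hK g hgH k hk
    have hp0 : p ≠ 0 := fun e' => by
      rw [e', coord_zero] at hp
      have : k = 1 := by
        have h1 := hp.symm
        rwa [mul_inv_eq_one, mul_eq_left] at h1
      rw [this, orderOf_one] at hk3
      norm_num at hk3
    have hrK : coord e f (rot p) ∈ K := F.actρ p ▸ hK ρ hρH _ hpK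
    have hspan : ∀ p q : Fin 3 × Fin 3, p ≠ 0 → ∃ i j : Fin 3,
        q = (i * p.1 + j * (rot p).1, i * p.2 + j * (rot p).2) := by decide
    have hpw : ∀ (v : Fin 3 × Fin 3) (i : Fin 3), coord e f v ∈ K →
        coord e f (i * v.1, i * v.2) ∈ K := by
      intro v i hv
      fin_cases i
      · simp [coord]
      · simpa using hv
      · show coord e f ((2 : Fin 3) * v.1, (2 : Fin 3) * v.2) ∈ K
        rw [show (((2 : Fin 3) * v.1, (2 : Fin 3) * v.2) : Fin 3 × Fin 3) = v + v by
          revert v; intro v _; exact (by decide : ∀ w : Fin 3 × Fin 3,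
            ((2 : Fin 3) * w.1, (2 : Fin 3) * w.2) = w + w) v, h.coord_add F.he F.hf]
        exact K.mul_mem hv hv
    have hSK : ∀ s ∈ S, s ∈ K := fun s hs => by
      obtain ⟨q, rfl⟩ := F.surj hS hs
      obtain ⟨i, j, rfl⟩ := hspan p q hp0
      rw [show ((i * p.1 + j * (rot p).1, i * p.2 + j * (rot p).2) : Fin 3 × Fin 3) =
        (i * p.1, i * p.2) + (j * (rot p).1, j * (rot p).2) from rfl, h.coord_add F.he F.hf]
      exact K.mul_mem (hpw p i hpK) (hpw (rot p) j hrK)
    intro x hx
    obtain ⟨g, hgH, hgS⟩ := hconjH x hx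
    have := hK g⁻¹ (H.inv_mem hgH) _ (hSK _ hgS)
    rwa [show g⁻¹ * (g * x * g⁻¹) * g⁻¹⁻¹ = x by group] at this
  -- there are 80 elements of order 3
  have h80 : 81 ≤ Nat.card {x : G // x ^ 3 = 1} := by
    have hK : ∀ p, p ≠ 0 → Nat.card {x : G // IsConj (coord e f p) x} = 40 := fun p hp => by
      have := h.card_class (coord_mem F.he F.hf p)
        (fun e' => hp (F.inj (e'.trans (coord_zero e f).symm)))
      omega
    let i : Option ({x : G // IsConj (coord e f (1, 0)) x} ⊕ {x : G // IsConj (coord e f (1, 1)) x}) →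
        {x : G // x ^ 3 = 1} := fun o => o.elim ⟨1, one_pow 3⟩ fun s => s.elim
          (fun x => ⟨x.1, by
            obtain ⟨g, hg⟩ := isConj_iff.1 x.2
            rw [← hg, conj_pow, hS.exp3 _ (coord_mem F.he F.hf _), mul_one, mul_inv_cancel]⟩)
          (fun x => ⟨x.1, by
            obtain ⟨g, hg⟩ := isConj_iff.1 x.2
            rw [← hg, conj_pow, hS.exp3 _ (coord_mem F.he F.hf _), mul_one, mul_inv_cancel]⟩)
    have hne1 : ∀ (p : Fin 3 × Fin 3), p ≠ 0 → ¬ IsConj (coord e f p) 1 := fun p hp hc =>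
      hp (F.inj ((isConj_one_left.1 hc).trans (coord_zero e f).symm))
    have hAB : ¬ IsConj (coord e f (1, 0)) (coord e f (1, 1)) := by rw [F.fusA hS]; decide
    have hi : Function.Injective i := by
      rintro (_ | ⟨x⟩ | ⟨x⟩) (_ | ⟨y⟩ | ⟨y⟩) hxy <;>
        simp only [i, Option.elim, Sum.elim_inl, Sum.elim_inr, Subtype.mk.injEq] at hxy
      · rfl
      · exact absurd (hxy ▸ y.2) (hne1 _ (by decide))
      · exact absurd (hxy ▸ y.2) (hne1 _ (by decide))
      · exact absurd (hxy ▸ x.2) (hne1 _ (by decide))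
      · exact congrArg _ (congrArg _ (Subtype.ext hxy))
      · exact absurd ((hxy ▸ x.2 : IsConj (coord e f (1, 0)) y.1).trans y.2.symm) hAB
      · exact absurd (hxy ▸ x.2) (hne1 _ (by decide))
      · exact absurd (y.2.trans (hxy ▸ x.2 : IsConj (coord e f (1, 1)) y.1).symm) hAB
      · exact congrArg _ (congrArg _ (Subtype.ext hxy))
    have := Nat.card_le_card_of_injective i hi
    rw [Finite.card_option, Nat.card_sum, hK _ (by decide), hK _ (by decide)] at this
    exact this
  haveI : Nontrivial H := Finite.one_lt_card_iff_nontrivial.1 (by omega)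
  haveI hsimple : IsSimpleGroup H := ⟨fun M hM => by
    by_contra hc
    push Not at hc
    set K := M.map H.subtype with hKdef
    have hKH : K ≤ H := map_subtype_le M
    have hKn : ∀ x ∈ H, ∀ k ∈ K, x * k * x⁻¹ ∈ K := by
      rintro x hx _ ⟨k, hk, rfl⟩
      exact ⟨_, hM.conj_mem k hk ⟨x, hx⟩, rfl⟩
    have hKbot : K ≠ ⊥ := fun e' => hc.1 ((map_eq_bot_iff_of_injective _ H.subtype_injective).1 e')
    have h3mem := hcontains K hKH hKn hKbot
    have hKM : Nat.card K = Nat.card M :=
      (Nat.card_congr (M.equivMapOfInjective _ H.subtype_injective).toEquiv).symm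
    have hKlt : Nat.card K < 360 := by
      rw [hKM, ← hHcard]
      exact lt_of_le_of_ne M.card_le_card_group fun e' => hc.2 ((card_eq_iff_eq_top M).1 e')
    have hKd : Nat.card K ∣ 360 := hHcard ▸ (hKM ▸ M.card_subgroup_dvd_card)
    have hK81 : 81 ≤ Nat.card K := h80.trans (Nat.card_le_card_of_injective
      (fun x => (⟨x.1, h3mem x.1 x.2⟩ : K)) fun a b hab => Subtype.ext (congrArg (fun z : K => (z : G)) hab))
    have hK9 : 9 ∣ Nat.card K := hS.card ▸ card_dvd_of_le fun s hs => h3mem s (hS.exp3 s hs)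
    have hKval : Nat.card K = 90 ∨ Nat.card K = 180 := by
      obtain ⟨c, hc'⟩ := hKd
      have : c ≤ 4 := by nlinarith
      interval_cases c <;> omega
    haveI : Fact (Nat.Prime 5) := ⟨by norm_num⟩
    have hchar : ∀ J : Subgroup K, J.Characteristic → ¬ 3 ∣ Nat.card J → J = ⊥ := by
      intro J hJ h3
      refine (map_eq_bot_iff_of_injective _ K.subtype_injective).1 (no_invariant hS hG
        (J.map K.subtype) ?_ ?_)
      · rwa [← Nat.card_congr (J.equivMapOfInjective _ K.subtype_injective).toEquiv]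
      · rintro s hs _ ⟨k, hk, rfl⟩
        have hsK : s ∈ K := h3mem s (hS.exp3 s hs)
        exact ⟨_, (inferInstance : J.Normal).conj_mem k hk ⟨s, hsK⟩, rfl⟩
    let T : Sylow 5 K := default
    have hT : Nat.card (T : Subgroup K) = 5 := by
      rcases hKval with e' | e'
      · exact (SmallGroups.card_sylow_subgroup (a := 1) (m := 18) (by rw [e']; norm_num)
          (by norm_num) T).trans (pow_one 5)
      · exact (SmallGroups.card_sylow_subgroup (a := 1) (m := 36) (by rw [e']; norm_num)
          (by norm_num) T).trans (pow_one 5)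
    have hn5 := card_sylow_modEq_one 5 K
    have hn5d := T.card_dvd_index
    have hTi := (T : Subgroup K).card_mul_index
    rw [hT] at hTi
    have hn : Nat.card (Sylow 5 K) = 1 ∨ (Nat.card (Sylow 5 K) = 6 ∧ Nat.card K = 180) ∨
        Nat.card K < 81 + Nat.card (Sylow 5 K) * 4 := by
      have h36 : Nat.card (Sylow 5 K) ∣ 36 := by
        rcases hKval with e' | e'
        · exact hn5d.trans (by rw [show (T : Subgroup K).index = 18 by omega]; norm_num)
        · exact hn5d.trans (by rw [show (T : Subgroup K).index = 36 by omega])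
      have hle := Nat.le_of_dvd (by norm_num) h36
      have hm : Nat.card (Sylow 5 K) % 5 = 1 := hn5
      obtain ⟨c, hc'⟩ := h36
      interval_cases hv : Nat.card (Sylow 5 K) <;> omega
    rcases hn with hn | ⟨hn, hK180⟩ | hn
    · haveI := (Nat.card_eq_one_iff_unique.1 hn).1
      have hchT : (T : Subgroup K).Characteristic := Sylow.characteristic_of_subsingleton T
      have := hchar _ hchT (by rw [hT]; norm_num)
      rw [this, Subgroup.card_bot] at hT
      norm_num at hT
    · -- an embedding in `S₆`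
      set ψ := MulAction.toPermHom K (Sylow 5 K)
      have hker : ψ.ker = ⊥ := by
        by_contra hne
        set J := ψ.ker.map K.subtype
        have hnorm : ∀ x ∈ H, ∀ k ∈ J, x * k * x⁻¹ ∈ J := by
          rintro x hx _ ⟨k, hk, rfl⟩
          let c : K ≃* K :=
            { toFun := fun a => ⟨x * a * x⁻¹, hKn x hx a a.2⟩
              invFun := fun a => ⟨x⁻¹ * a * x, by simpa using hKn x⁻¹ (H.inv_mem hx) a a.2⟩
              left_inv := fun a => Subtype.ext (by simp [mul_assoc])
              right_inv := fun a => Subtype.ext (by simp [mul_assoc])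
              map_mul' := fun a b => Subtype.ext (by simp [mul_assoc]) }
          refine ⟨c k, ?_, rfl⟩
          have hfixall : ∀ Q : Sylow 5 K, k • Q = Q := fun Q =>
            Equiv.congr_fun (MonoidHom.mem_ker.1 hk) Q
          refine MonoidHom.mem_ker.2 (Equiv.ext fun Q => ?_)
          refine Sylow.smul_eq_iff_mem_normalizer.2 ?_
          have hq : IsPGroup 5 ((Q : Subgroup K).map c.symm.toMonoidHom) :=
            Q.isPGroup'.map c.symm.toMonoidHom
          obtain ⟨R, hR⟩ := hq.exists_le_sylow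
          have hcardR : Nat.card R = Nat.card ((Q : Subgroup K).map c.symm.toMonoidHom) := by
            rw [← Nat.card_congr ((Q : Subgroup K).equivMapOfInjective _ c.symm.injective).toEquiv]
            exact Sylow.card_eq_multiplicity R |>.trans (Sylow.card_eq_multiplicity Q).symm
          have hReq := eq_of_le_of_card_ge hR hcardR.le
          have hkR : k ∈ normalizer ((R : Subgroup K) : Set K) :=
            Sylow.smul_eq_iff_mem_normalizer.1 (hfixall R)
          show c k ∈ normalizer ((Q : Subgroup K) : Set K)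
          rw [mem_normalizer_iff] at hkR ⊢
          intro a
          have h1 := hkR (c.symm a)
          rw [← hReq] at h1
          have h2 : ∀ b, c.symm b ∈ (Q : Subgroup K).map c.symm.toMonoidHom ↔ b ∈ (Q : Subgroup K) :=
            fun b => mem_map_iff_mem c.symm.injective
          rw [h2, show k * c.symm a * k⁻¹ = c.symm (c k * a * (c k)⁻¹) by simp, h2] at h1
          exact h1
        have hJ := hcontains J ((map_subtype_le _).trans hKH) hnorm
          (fun e' => hne ((map_eq_bot_iff_of_injective _ K.subtype_injective).1 e'))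
        have h9 : 9 ∣ Nat.card J := hS.card ▸ card_dvd_of_le fun s hs => hJ s (hS.exp3 s hs)
        have h81 : 81 ≤ Nat.card J := h80.trans (Nat.card_le_card_of_injective
          (fun x => (⟨x.1, hJ x.1 x.2⟩ : J)) fun a b hab =>
            Subtype.ext (congrArg (fun z : J => (z : G)) hab))
        rw [← Nat.card_congr (ψ.ker.equivMapOfInjective _ K.subtype_injective).toEquiv] at h81
        have hle : ψ.ker ≤ normalizer ((T : Subgroup K) : Set K) := fun k hk =>
          Sylow.smul_eq_iff_mem_normalizer.1 (Equiv.congr_fun (MonoidHom.mem_ker.1 hk) T)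
        have h4 := card_le_of_le hle
        have h5 := (normalizer ((T : Subgroup K) : Set K)).card_mul_index
        rw [show (normalizer ((T : Subgroup K) : Set K)).index = 6 from
          (Sylow.card_eq_index_normalizer T).symm.trans hn] at h5
        rcases hKval with e' | e' <;> omega
      haveI : Fintype (Sylow 5 K) := Fintype.ofFinite _
      have hc6 : Fintype.card (Sylow 5 K) = 6 := by rw [← Nat.card_eq_fintype_card, hn]
      let ψ' : K →* Perm (Fin 6) :=
        (Equiv.permCongrHom (Fintype.equivFinOfCardEq hc6)).toMonoidHom.comp ψ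
      have hinj : Function.Injective ψ' :=
        (Equiv.permCongrHom (Fintype.equivFinOfCardEq hc6)).injective.comp
          ((MonoidHom.ker_eq_bot_iff ψ).1 hker)
      set A := (Perm.sign.comp ψ').ker
      let κ : A →* alternatingGroup (Fin 6) :=
        (ψ'.comp A.subtype).codRestrict _ (fun g => Perm.mem_alternatingGroup.2 g.2)
      have hκ : Function.Injective κ := fun a b hab =>
        Subtype.ext (hinj (congrArg Subtype.val hab))
      have hA6 : Nat.card (alternatingGroup (Fin 6)) = 360 := by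
        have h6 := two_mul_nat_card_alternatingGroup (α := Fin 6)
        rw [Nat.card_perm, Nat.card_fin, show Nat.factorial 6 = 720 from rfl] at h6
        omega
      have hrange : Nat.card κ.range = Nat.card A :=
        (Nat.card_congr (MonoidHom.ofInjective hκ).toEquiv).symm
      have hAi : A.index = 1 ∨ A.index = 2 := by
        have h1 : A.index ∣ 2 := by
          rw [Subgroup.index_ker]
          refine (Subgroup.card_subgroup_dvd_card _).trans ?_
          rw [Nat.card_eq_fintype_card, Fintype.card_units_int]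
        exact (Nat.dvd_prime Nat.prime_two).1 h1
      have hAK := A.card_mul_index
      by_cases htop : κ.range = ⊤
      · rw [htop, Subgroup.card_top, hA6] at hrange
        rcases hAi with e' | e' <;> rw [e'] at hAK <;> omega
      · have h1 := Alt.card_le_index_alt (by rw [Nat.card_fin]; norm_num) htop
        have h2 := κ.range.card_mul_index
        rw [hrange, hA6] at h2
        rw [Nat.card_fin] at h1
        rcases hAi with e' | e' <;> rw [e'] at hAK <;> nlinarith
    · -- too many elements of order 5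
      haveI : Fintype (Sylow 5 K) := Fintype.ofFinite _
      have hcardQ : ∀ Q : Sylow 5 K, Nat.card (Q : Subgroup K) = 5 := fun Q =>
        (Sylow.card_eq_multiplicity Q).trans ((Sylow.card_eq_multiplicity T).symm.trans hT)
      let j : {x : G // x ^ 3 = 1} ⊕ (Σ Q : Sylow 5 K, {y : (Q : Subgroup K) // y ≠ 1}) → K :=
        Sum.elim (fun x => ⟨x.1, h3mem x.1 x.2⟩) (fun z => (z.2.1 : K))
      have h5y : ∀ (Q : Sylow 5 K) (y : {y : (Q : Subgroup K) // y ≠ 1}),
          orderOf ((y.1 : K) : G) = 5 := by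
        intro Q y
        rw [Subgroup.orderOf_coe, Subgroup.orderOf_coe]
        exact orderOf_eq_prime
          (orderOf_dvd_iff_pow_eq_one.1 ((_root_.orderOf_dvd_natCard _).trans (hcardQ Q).dvd)) y.2
      have hj : Function.Injective j := by
        rintro (x | ⟨Q, y⟩) (x' | ⟨Q', y'⟩) hxy <;> simp only [j, Sum.elim_inl, Sum.elim_inr] at hxy
        · exact congrArg _ (Subtype.ext (congrArg (fun z : K => (z : G)) hxy))
        · exfalso
          have h1 : x.1 = ((y'.1 : K) : G) := congrArg (fun z : K => (z : G)) hxy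
          have h3 := orderOf_dvd_of_pow_eq_one x.2
          rw [h1, h5y] at h3
          norm_num at h3
        · exfalso
          have h1 : ((y.1 : K) : G) = x'.1 := congrArg (fun z : K => (z : G)) hxy
          have h3 := orderOf_dvd_of_pow_eq_one x'.2
          rw [← h1, h5y] at h3
          norm_num at h3
        · have hmem : (y.1 : K) ∈ (Q : Subgroup K) ⊓ Q' := ⟨y.1.2, hxy ▸ y'.1.2⟩
          have hQQ : Q = Q' := by
            by_contra hne
            have hdvd : Nat.card ((Q : Subgroup K) ⊓ Q' : Subgroup K) ∣ 5 :=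
              (card_dvd_of_le inf_le_left).trans (hcardQ Q).dvd
            rcases (Nat.dvd_prime (by norm_num : Nat.Prime 5)).1 hdvd with e' | e'
            · rw [Subgroup.eq_bot_of_card_eq _ e', mem_bot] at hmem
              exact y.2 (Subtype.ext hmem)
            · refine hne (Sylow.ext ?_)
              exact (eq_of_le_of_card_ge inf_le_left (by rw [e', hcardQ])).symm.trans
                (eq_of_le_of_card_ge inf_le_right (by rw [e', hcardQ]))
          subst hQQ
          exact congrArg _ (congrArg _ (Subtype.ext (Subtype.ext hxy)))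
      have hle := Nat.card_le_card_of_injective j hj
      rw [Nat.card_sum, Nat.card_sigma] at hle
      have h4 : ∀ Q : Sylow 5 K, Nat.card {y : (Q : Subgroup K) // y ≠ 1} = 4 := fun Q => by
        have h1 := Nat.card_congr (Equiv.sumCompl (fun y : (Q : Subgroup K) => y ≠ 1))
        rw [Nat.card_sum, hcardQ] at h1
        have h2 : Nat.card {y : (Q : Subgroup K) // ¬ y ≠ 1} = 1 := Nat.card_eq_one_iff_unique.2
          ⟨⟨fun a b => Subtype.ext ((not_not.1 a.2).trans (not_not.1 b.2).symm)⟩,
            ⟨⟨1, not_not.2 rfl⟩⟩⟩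
        omega
      simp only [h4, Finset.sum_const, Finset.card_univ, smul_eq_mul] at hle
      rw [← Nat.card_eq_fintype_card] at hle
      omega⟩
  obtain ⟨E⟩ := Cfsg.Agent.S0497.result hHcard
  haveI : H.Normal := MonoidHom.normal_ker _
  let c : G →* MulAut (alternatingGroup (Fin 6)) :=
    (MulAut.congr E).toMonoidHom.comp MulAut.conjNormal
  have hcinj : Function.Injective c := by
    refine (MulAut.congr E).injective.comp ((MonoidHom.ker_eq_bot_iff _).1 ?_)
    set Z := (MulAut.conjNormal (H := H)).ker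
    haveI : Z.Normal := MonoidHom.normal_ker _
    refine no_invariant hS hG Z ?_ fun s _ k hk =>
      (inferInstance : Z.Normal).conj_mem k hk s
    intro h3
    obtain ⟨⟨k, hk⟩, hk3⟩ := exists_prime_orderOf_dvd_card' 3 h3
    rw [← Subgroup.orderOf_coe] at hk3
    simp only at hk3
    have hkc : k ^ 3 = 1 := by rw [← hk3, pow_orderOf_eq_one]
    obtain ⟨g, hgH, hgS⟩ := hconjH k hkc
    have hkZ := (inferInstance : Z.Normal).conj_mem k hk g
    have hk1 : g * k * g⁻¹ = 1 := by
      by_contra hne
      -- it would commute with `ρ`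
      have h1 := DFunLike.congr_fun (MonoidHom.mem_ker.1 hkZ) ⟨ρ, hρH⟩
      have h2 : g * k * g⁻¹ * ρ * (g * k * g⁻¹)⁻¹ = ρ := by
        have h2 := congrArg Subtype.val h1
        rw [MulAut.conjNormal_apply] at h2
        exact h2
      obtain ⟨p, hp⟩ := F.surj hS hgS
      rw [← hp] at h2
      have h3' : ρ * coord e f p * ρ⁻¹ = coord e f p := by
        rw [mul_inv_eq_iff_eq_mul] at h2
        rw [← h2, mul_inv_cancel_right]
      rw [F.actρ] at h3'
      have hno : ∀ v : Fin 3 × Fin 3, rot v = v → v = 0 := by decide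
      rw [hno p (F.inj h3'), coord_zero] at hp
      exact hne hp.symm
    have : k = 1 := by rwa [mul_inv_eq_one, mul_eq_left] at hk1
    rw [this, orderOf_one] at hk3
    norm_num at hk3
  have hpres : ∀ g, CharTwo.AltSix.Preserves (c g) := by
    intro g y hy
    set x : H := E.symm y
    have hx3 : (x : G) ^ 3 = 1 := by
      have h1 : y ^ 3 = 1 := Subtype.ext (by
        have := pow_orderOf_eq_one (y : Perm (Fin 6))
        rwa [hy.orderOf] at this)
      have h2 : x ^ 3 = 1 := by rw [← map_pow, h1, map_one]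
      exact congrArg Subtype.val h2
    obtain ⟨a, haH, haS⟩ := hconjH _ hx3
    obtain ⟨p, hp⟩ := F.surj hS haS
    have key : ∃ b ∈ H, b * (x : G) * b⁻¹ = g * (x : G) * g⁻¹ := by
      by_cases hg : g ∈ H
      · exact ⟨g, hg, rfl⟩
      have hflip : ∀ v : Fin 3 × Fin 3, ∃ k < 4, rot^[k] v = flipSnd v := by decide
      obtain ⟨k, -, hk⟩ := hflip p
      -- write `g` as an element of `H` times `σ` times an element of `H`
      have h1 : σ * a ∉ H := fun hh => by
        rw [hmemH, map_mul, hσ, (hmemH a).1 haH] at hh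
        exact absurd hh (by decide)
      have h2 : g * (σ * a)⁻¹ ∈ H := by
        rw [hmemH, map_mul, map_inv, (Int.units_eq_one_or (sg g)).resolve_left
          (fun hh => hg ((hmemH g).2 hh)), (Int.units_eq_one_or (sg (σ * a))).resolve_left
          (fun hh => h1 ((hmemH _).2 hh))]
        decide
      refine ⟨g * (σ * a)⁻¹ * (ρ ^ k * a), H.mul_mem h2 (H.mul_mem (H.pow_mem hρH k) haH), ?_⟩
      calc g * (σ * a)⁻¹ * (ρ ^ k * a) * (x : G) * (g * (σ * a)⁻¹ * (ρ ^ k * a))⁻¹
          = g * (σ * a)⁻¹ * (ρ ^ k * (a * (x : G) * a⁻¹) * (ρ ^ k)⁻¹) * (g * (σ * a)⁻¹)⁻¹ := by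
            group
        _ = g * (σ * a)⁻¹ * (σ * (a * (x : G) * a⁻¹) * σ⁻¹) * (g * (σ * a)⁻¹)⁻¹ := by
            rw [← hp, hρpow, hk, F.actσ]
        _ = g * (x : G) * g⁻¹ := by group
    obtain ⟨b, hb, hbx⟩ := key
    have hbE : c g y = E ⟨b, hb⟩ * y * (E ⟨b, hb⟩)⁻¹ := by
      have : MulAut.conjNormal g x = (⟨b, hb⟩ : H) * x * (⟨b, hb⟩ : H)⁻¹ := Subtype.ext (by
        simp [hbx])
      show E (MulAut.conjNormal g x) = _
      rw [this, map_mul, map_mul, map_inv, E.apply_symm_apply]
    exact CharTwo.AltSix.isThreeCycle_of_isConj (isConj_iff.2 ⟨_, hbE.symm⟩) hy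
  let d : Perm (Fin 6) →* MulAut (alternatingGroup (Fin 6)) := MulAut.conjNormal
  have hdinj : Function.Injective d := Alt.conjNormal_injective (by simp)
  have hrange : ∀ g, c g ∈ d.range := fun g => by
    obtain ⟨τ, hτ⟩ := AltAutThree.exists_conjNormal_six (hpres g) (by
      have := hpres g⁻¹
      rwa [map_inv] at this)
    exact ⟨τ, hτ⟩
  let c' : G →* Perm (Fin 6) :=
    (MonoidHom.ofInjective hdinj).symm.toMonoidHom.comp (c.codRestrict _ hrange)
  refine ⟨MulEquiv.ofBijective c' (Function.Injective.bijective_of_nat_card_le ?_ ?_)⟩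
  · exact (MonoidHom.ofInjective hdinj).symm.injective.comp fun a b hab =>
      hcinj (congrArg Subtype.val hab)
  · rw [hG, Nat.card_perm, Nat.card_fin]
    rfl

end Cfsg.Agent.SixSym
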