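import Cfsg.Agent.SixSym.Cases

/-!
# The order of a group from five columns of its character table

`d` lists the degrees, `a`, `b`, `g`, `h` the values on representatives of the two classes of
elements of order 3 and of the two classes of elements of order 6 powering to them.
-/

set_option autoImplicit false
set_option linter.style.haveILetI false

namespace Cfsg.Agent.SixSym

open scoped Classical

/-- The properties of the five columns. -/
structure Columns {ι : Type*} [Fintype ι] (i₀ : ι) (d : ι → ℕ) (a b g h : ι → ℤ) (n : ℕ) :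
    Prop where
  pos : ∀ i, 0 < d i
  d0 : d i₀ = 1
  a0 : a i₀ = 1
  b0 : b i₀ = 1
  g0 : g i₀ = 1
  h0 : h i₀ = 1
  aa : ∑ i, a i * a i = 18
  bb : ∑ i, b i * b i = 18
  ab : ∑ i, a i * b i = 0
  gg : ∑ i, g i * g i = 6
  hh : ∑ i, h i * h i = 6
  gh : ∑ i, g i * h i = 0
  ag : ∑ i, a i * g i = 0
  bg : ∑ i, b i * g i = 0
  ah : ∑ i, a i * h i = 0
  bh : ∑ i, b i * h i = 0
  da : ∑ i, (d i : ℤ) * a i = 0
  db : ∑ i, (d i : ℤ) * b i = 0
  dg : ∑ i, (d i : ℤ) * g i = 0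
  dh : ∑ i, (d i : ℤ) * h i = 0
  dd : ∑ i, d i ^ 2 = 72 * n
  hn : n % 9 = 1
  hn1 : 1 < n
  mod3 : ∀ i, (a i - b i) % 3 = 0
  mod9 : ∀ i, ((d i : ℤ) + 4 * a i + 4 * b i) % 9 = 0
  nonneg : ∀ i, 0 ≤ (d i : ℤ) + 4 * a i + 4 * b i
  nonneg₁ : ∀ i, 0 ≤ (d i : ℤ) + a i - 2 * b i
  nonneg₂ : ∀ i, 0 ≤ (d i : ℤ) + b i - 2 * a i
  par₁ : ∀ i, (g i - a i) % 2 = 0
  par₂ : ∀ i, (h i - b i) % 2 = 0
  eqA : ((72 * n : ℕ) : ℝ) * ∑ i, (a i : ℝ) ^ 2 * (b i : ℝ) / (d i : ℝ) = 648
  eqB : ((72 * n : ℕ) : ℝ) * ∑ i, (b i : ℝ) ^ 2 * (a i : ℝ) / (d i : ℝ) = 648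
  eight : ∀ i, d i = 8 → a i = -1 → b i = -1 → ∃ k, d k = 1 ∧ g k = -1 ∧ h k = -1
  lin : ∀ i, d i = 1 → a i = 1 ∧ b i = 1
  linmul : ∀ i k, d i = 1 → d k = 1 → ∃ m, d m = 1 ∧ g m = g i * g k ∧ h m = h i * h k

/-- The possible values of `(a², b², ab)`. -/
def keys : Finset (ℤ × ℤ × ℤ) :=
  {(0, 0, 0), (0, 9, 0), (1, 1, 1), (1, 4, -2), (1, 16, 4), (4, 1, -2), (4, 4, 4), (4, 16, -8),
    (9, 0, 0), (9, 9, -9), (9, 9, 9), (16, 1, 4), (16, 4, -8), (16, 16, 16)}

/-- The keys that occur. -/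
def keys₆ : Finset (ℤ × ℤ × ℤ) :=
  {(1, 1, 1), (4, 4, 4), (1, 4, -2), (4, 1, -2), (0, 9, 0), (9, 0, 0)}

theorem key_mem : ∀ a ∈ Finset.Icc (-4 : ℤ) 4, ∀ b ∈ Finset.Icc (-4 : ℤ) 4,
    (a - b) % 3 = 0 → (a * a, b * b, a * b) ∈ keys := by
  decide +kernel

theorem sum_keys {M : Type} [AddCommMonoid M] (f : ℤ × ℤ × ℤ → M) : ∑ k ∈ keys, f k =
    f (0, 0, 0) + (f (0, 9, 0) + (f (1, 1, 1) + (f (1, 4, -2) + (f (1, 16, 4) + (f (4, 1, -2) +
    (f (4, 4, 4) + (f (4, 16, -8) + (f (9, 0, 0) + (f (9, 9, -9) + (f (9, 9, 9) + (f (16, 1, 4) +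
    (f (16, 4, -8) + f (16, 16, 16))))))))))))) := by
  simp [keys]

theorem sum_keys₆ {M : Type} [AddCommMonoid M] (f : ℤ × ℤ × ℤ → M) : ∑ k ∈ keys₆, f k =
    f (1, 1, 1) + (f (4, 4, 4) + (f (1, 4, -2) + (f (4, 1, -2) + (f (0, 9, 0) + f (9, 0, 0))))) := by
  simp [keys₆]

theorem abs_le_four {x : ℤ} (h : x * x ≤ 17) : -4 ≤ x ∧ x ≤ 4 :=
  ⟨by nlinarith, by nlinarith⟩

theorem unit_or {x : ℤ} (h : x * x = 1) : x = 1 ∨ x = -1 := by
  rcases Int.eq_one_or_neg_one_of_mul_eq_one h with h | h <;> simp [h]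

theorem two_or {x : ℤ} (h : x * x = 4) : x = 2 ∨ x = -2 := by
  obtain ⟨h1, h2⟩ := abs_le_four (x := x) (by omega)
  interval_cases x <;> simp_all

/-- Ordering the three rows by their values at the elements of order 6. -/
theorem label3 {ι : Type*} (p q r : ι) (e k : ι → ℤ) (hp : e p * e p = 1 ∧ k p * k p = 1)
    (hq : e q * e q = 1 ∧ k q * k q = 1) (hr : e r * e r = 1 ∧ k r * k r = 1)
    (he : e p + e q + e r = -1) (hk : k p + k q + k r = -1)
    (hek : e p * k p + e q * k q + e r * k r = -1) :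
    ∃ x y z, (({x, y, z} : Finset ι) = {p, q, r}) ∧ (e x = -1 ∧ k x = -1) ∧
      (e y = 1 ∧ k y = -1) ∧ (e z = -1 ∧ k z = 1) := by
  rcases unit_or hp.1 with a1 | a1 <;> rcases unit_or hq.1 with a2 | a2 <;>
    rcases unit_or hr.1 with a3 | a3 <;> rw [a1, a2, a3] at he hek <;> norm_num at he <;>
    rcases unit_or hp.2 with b1 | b1 <;> rcases unit_or hq.2 with b2 | b2 <;>
      rcases unit_or hr.2 with b3 | b3 <;> rw [b1, b2, b3] at hk hek <;>
        norm_num at hk <;> norm_num at hek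
  all_goals first
    | exact ⟨p, q, r, rfl, ⟨a1, b1⟩, ⟨a2, b2⟩, ⟨a3, b3⟩⟩
    | exact ⟨p, r, q, by ext; simp; tauto, ⟨a1, b1⟩, ⟨a3, b3⟩, ⟨a2, b2⟩⟩
    | exact ⟨q, p, r, by ext; simp; tauto, ⟨a2, b2⟩, ⟨a1, b1⟩, ⟨a3, b3⟩⟩
    | exact ⟨q, r, p, by ext; simp; tauto, ⟨a2, b2⟩, ⟨a3, b3⟩, ⟨a1, b1⟩⟩
    | exact ⟨r, p, q, by ext; simp; tauto, ⟨a3, b3⟩, ⟨a1, b1⟩, ⟨a2, b2⟩⟩
    | exact ⟨r, q, p, by ext; simp; tauto, ⟨a3, b3⟩, ⟨a2, b2⟩, ⟨a1, b1⟩⟩

variable {ι : Type*} [Fintype ι] {i₀ : ι} {d : ι → ℕ} {a b g h : ι → ℤ} {n : ℕ}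

theorem order_eq_ten (D : Columns i₀ d a b g h n) : n = 10 := by
  set E := Finset.univ.erase i₀ with hE
  let key : ι → ℤ × ℤ × ℤ := fun i => (a i * a i, b i * b i, a i * b i)
  have hsplit0 : ∀ {M : Type} [AddCommMonoid M] (F : ι → M), ∑ i, F i = F i₀ + ∑ i ∈ E, F i :=
    fun F => (Finset.add_sum_erase Finset.univ F (Finset.mem_univ i₀)).symm
  have hE17 : ∀ (v : ι → ℤ), (∑ i, v i * v i = 18) → v i₀ = 1 → ∀ i ∈ E, v i * v i ≤ 17 := by
    intro v hv hv0 i hi
    have h1 := hsplit0 fun i => v i * v i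
    have h2 : v i * v i ≤ ∑ j ∈ E, v j * v j :=
      Finset.single_le_sum (fun j _ => mul_self_nonneg (v j)) hi
    simp only [hv, hv0] at h1
    linarith
  have hmap : ∀ i ∈ E, key i ∈ keys := fun i hi => key_mem _
    (Finset.mem_Icc.2 (abs_le_four (hE17 a D.aa D.a0 i hi))) _
    (Finset.mem_Icc.2 (abs_le_four (hE17 b D.bb D.b0 i hi))) (D.mod3 i)
  let R : ℤ × ℤ × ℤ → Finset ι := fun k => E.filter fun i => key i = k
  have hR : ∀ {i k}, i ∈ R k → i ≠ i₀ ∧ a i * a i = k.1 ∧ b i * b i = k.2.1 ∧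
      a i * b i = k.2.2 := by
    intro i k hi
    obtain ⟨h1, rfl⟩ := Finset.mem_filter.1 hi
    exact ⟨Finset.ne_of_mem_erase h1, rfl, rfl, rfl⟩
  have hfib : ∀ {M : Type} [AddCommMonoid M] (F : ι → M),
      ∑ i ∈ E, F i = ∑ k ∈ keys, ∑ i ∈ R k, F i := fun F =>
    (Finset.sum_fiberwise_of_maps_to hmap F).symm
  have hval : ∀ (F : ι → ℤ) (c : ℤ × ℤ × ℤ → ℤ), (∀ i ∈ E, F i = c (key i)) →
      ∑ i ∈ E, F i = ∑ k ∈ keys, ((R k).card : ℤ) * c k := by
    intro F c hF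
    rw [hfib F]
    refine Finset.sum_congr rfl fun k _ => ?_
    rw [Finset.sum_congr rfl fun i hi => show F i = c k by
      obtain ⟨h1, rfl⟩ := Finset.mem_filter.1 hi; exact hF i h1, Finset.sum_const, nsmul_eq_mul]
  have eA := hsplit0 fun i => a i * a i
  have eB := hsplit0 fun i => b i * b i
  have eC := hsplit0 fun i => a i * b i
  rw [D.aa, hval _ (fun k => k.1) (fun i _ => rfl), sum_keys] at eA
  rw [D.bb, hval _ (fun k => k.2.1) (fun i _ => rfl), sum_keys] at eB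
  rw [D.ab, hval _ (fun k => k.2.2) (fun i _ => rfl), sum_keys] at eC
  simp only [D.a0, D.b0] at eA eB eC
  have hpar : ∀ x : ℤ, (x * x) % 2 = x % 2 := fun x => by
    rcases Int.emod_two_eq_zero_or_one x with e | e <;> rw [Int.mul_emod, e] <;> norm_num
  have hoddle : ∀ (v w : ι → ℤ), (∑ i, w i * w i = 6) → w i₀ = 1 →
      (∀ i, (w i - v i) % 2 = 0) → ∑ i ∈ E, v i % 2 ≤ 5 ∧ ∀ i ∈ E, v i % 2 ≤ w i * w i ∧
        ∑ j ∈ E, w j * w j = 5 := by
    intro v w hw hw0 hvw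
    have hle : ∀ i, v i % 2 ≤ w i * w i := by
      intro i
      rcases Int.emod_two_eq_zero_or_one (v i) with e | e
      · rw [e]; exact mul_self_nonneg _
      · have h0 : w i ≠ 0 := fun h0 => by have := hvw i; omega
        rw [e]
        have := mul_self_pos.2 h0
        omega
    have h1 := hsplit0 fun i => w i * w i
    simp only [hw, hw0] at h1
    exact ⟨(Finset.sum_le_sum fun i _ => hle i).trans (by linarith), fun i _ => ⟨hle i, by linarith⟩⟩
  obtain ⟨hoA, hgA⟩ := hoddle a g D.gg D.g0 D.par₁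
  obtain ⟨hoB, hgB⟩ := hoddle b h D.hh D.h0 D.par₂
  rw [hval _ (fun k => k.1 % 2) (fun i _ => (hpar _).symm), sum_keys] at hoA
  rw [hval _ (fun k => k.2.1 % 2) (fun i _ => (hpar _).symm), sum_keys] at hoB
  norm_num at eA eB eC hoA hoB
  have hbig : (R (1, 16, 4)).card = 0 ∧ (R (4, 16, -8)).card = 0 ∧ (R (9, 9, 9)).card = 0 ∧
      (R (16, 1, 4)).card = 0 ∧ (R (16, 4, -8)).card = 0 ∧ (R (16, 16, 16)).card = 0 := by
    refine ⟨?_, ?_, ?_, ?_, ?_, ?_⟩ <;> omega
  obtain ⟨z1, z2, z3, z4, z5, z6⟩ := hbig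
  simp only [z1, z2, z3, z4, z5, z6, Nat.cast_zero, zero_mul, add_zero] at eA eB eC hoA hoB
  -- the real sums
  have hzero : ∀ i ∈ R (0, 0, 0), a i = 0 ∧ b i = 0 := fun i hi => by
    obtain ⟨-, h1, h2, -⟩ := hR hi
    exact ⟨mul_self_eq_zero.1 h1, mul_self_eq_zero.1 h2⟩
  have hdiff : ∑ i, ((a i * b i * (a i - b i) : ℤ) : ℝ) / (d i : ℝ) = 0 := by
    have hN : ((72 * n : ℕ) : ℝ) ≠ 0 := Nat.cast_ne_zero.2 (by have := D.hn1; omega)
    have h1 := mul_left_cancel₀ hN (D.eqA.trans D.eqB.symm)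
    calc _ = ∑ i, ((a i : ℝ) ^ 2 * (b i : ℝ) / (d i : ℝ) - (b i : ℝ) ^ 2 * (a i : ℝ) / (d i : ℝ)) :=
          Finset.sum_congr rfl fun i _ => by push_cast; ring
      _ = 0 := by rw [Finset.sum_sub_distrib, h1, sub_self]
  have hsum : (n : ℝ) * ∑ i, ((a i * b i * (a i + b i) : ℤ) : ℝ) / (d i : ℝ) = 18 := by
    have h1 : ∑ i, ((a i * b i * (a i + b i) : ℤ) : ℝ) / (d i : ℝ) =
        ∑ i, (a i : ℝ) ^ 2 * (b i : ℝ) / (d i : ℝ) +
          ∑ i, (b i : ℝ) ^ 2 * (a i : ℝ) / (d i : ℝ) := by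
      rw [← Finset.sum_add_distrib]
      exact Finset.sum_congr rfl fun i _ => by push_cast; ring
    have h2 := D.eqA
    have h3 := D.eqB
    push_cast at h2 h3
    rw [h1]
    linarith
  have hdR : ∀ i, (d i : ℝ) ≠ 0 := fun i => Nat.cast_ne_zero.2 (D.pos i).ne'
  have hX : (R (9, 9, -9)).card = 0 := by
    by_contra hX
    have hx : (R (9, 9, -9)).card = 1 := by omega
    have y1 : (R (0, 9, 0)).card = 0 ∧ (R (1, 4, -2)).card = 0 ∧ (R (4, 1, -2)).card = 0 ∧
        (R (9, 0, 0)).card = 0 := by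
      refine ⟨?_, ?_, ?_, ?_⟩ <;> omega
    obtain ⟨i, hi⟩ := Finset.card_eq_one.1 hx
    have hdiff' := hdiff
    rw [hsplit0, hfib, sum_keys] at hdiff'
    have hs : ∀ k : ℤ × ℤ × ℤ, k.1 = k.2.2 → k.2.1 = k.2.2 →
        ∑ j ∈ R k, ((a j * b j * (a j - b j) : ℤ) : ℝ) / (d j : ℝ) = 0 := by
      intro k hk1 hk2
      refine Finset.sum_eq_zero fun j hj => ?_
      obtain ⟨-, h1, h2, h3⟩ := hR hj
      have : (a j - b j) * (a j - b j) = 0 := by linarith
      rw [mul_self_eq_zero.1 this]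
      simp
    simp only [Finset.card_eq_zero.1 z1, Finset.card_eq_zero.1 z2, Finset.card_eq_zero.1 z3,
      Finset.card_eq_zero.1 z4, Finset.card_eq_zero.1 z5, Finset.card_eq_zero.1 z6,
      Finset.card_eq_zero.1 y1.1, Finset.card_eq_zero.1 y1.2.1, Finset.card_eq_zero.1 y1.2.2.1,
      Finset.card_eq_zero.1 y1.2.2.2, hi, Finset.sum_empty, Finset.sum_singleton, D.a0, D.b0,
      hs (0, 0, 0) rfl rfl, hs (1, 1, 1) rfl rfl, hs (4, 4, 4) rfl rfl] at hdiff'
    obtain ⟨-, h1, h2, h3⟩ := hR (show i ∈ R (9, 9, -9) by simp [hi])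
    simp only [h3] at hdiff'
    norm_num at hdiff'
    rcases hdiff' with h0 | h0
    · have : a i = b i := by exact_mod_cast (sub_eq_zero.1 h0)
      rw [this] at h3
      linarith [mul_self_nonneg (b i)]
    · exact (D.pos i).ne' h0
  simp only [hX, Nat.cast_zero, zero_mul, add_zero, zero_add] at eA eB eC hoA hoB
  have hsplit : ∀ {M : Type} [AddCommMonoid M] (F : ι → M), (∀ i ∈ R (0, 0, 0), F i = 0) →
      ∑ i, F i = F i₀ + ∑ k ∈ keys₆, ∑ i ∈ R k, F i := by
    intro M _ F hF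
    rw [hsplit0, hfib]
    congr 1
    refine (Finset.sum_subset (by decide) fun k hk hk6 => ?_).symm
    simp only [keys, keys₆, Finset.mem_insert, Finset.mem_singleton, not_or] at hk hk6
    rcases hk with rfl | rfl | rfl | rfl | rfl | rfl | rfl | rfl | rfl | rfl | rfl | rfl | rfl | rfl
    all_goals first
      | exact Finset.sum_eq_zero hF
      | (rw [Finset.card_eq_zero.1 ‹(R _).card = 0›]; exact Finset.sum_empty)
      | (exfalso; simp at hk6)
  have hB := hsum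
  rw [hsplit _ (fun i hi => by simp [(hzero i hi).1]), sum_keys₆] at hB
  have hW := hdiff
  rw [hsplit _ (fun i hi => by simp [(hzero i hi).1]), sum_keys₆] at hW
  simp only [D.a0, D.b0, D.d0] at hB hW
  -- signed degrees of the rows
  have d11 : ∀ i ∈ R (1, 1, 1), b i = a i ∧ (a i * d i) % 9 = 1 ∧
      ((a i * b i * (a i + b i) : ℤ) : ℝ) / (d i : ℝ) = 2 / ((a i * d i : ℤ) : ℝ) ∧
      ((a i * b i * (a i - b i) : ℤ) : ℝ) / (d i : ℝ) = 0 ∧
      (a i * d i = -8 → d i = 8 ∧ a i = -1) ∧ (a i * d i = 1 → d i = 1 ∧ a i = 1) := by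
    intro i hi
    obtain ⟨-, h1, h2, h3⟩ := hR hi
    have hm := D.mod9 i
    have hd := D.pos i
    rcases unit_or h1 with e | e <;> rw [e] at h3 hm ⊢ <;>
      (obtain he : b i = _ := (by linarith : b i = a i); rw [e] at he; rw [he] at hm ⊢;
       refine ⟨rfl, by omega, ?_, by simp, by omega, by omega⟩)
    · push_cast; ring
    · push_cast; field_simp; all_goals norm_num
  have d44 : ∀ i ∈ R (4, 4, 4), ∃ T : ℤ, T % 9 = 2 ∧ T ≠ -7 ∧ T * T = (d i : ℤ) * d i ∧
      ((a i * b i * (a i + b i) : ℤ) : ℝ) / (d i : ℝ) = 16 / (T : ℝ) ∧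
      ((a i * b i * (a i - b i) : ℤ) : ℝ) / (d i : ℝ) = 0 ∧
      (d i : ℤ) * (2 * a i + b i) = 6 * T ∧ a i % 2 = 0 ∧ b i % 2 = 0 := by
    intro i hi
    obtain ⟨-, h1, h2, h3⟩ := hR hi
    have hm := D.mod9 i
    have hnn := D.nonneg i
    have hd := D.pos i
    rcases two_or h1 with e | e <;> rw [e] at h3 hm hnn ⊢
    · obtain he : b i = 2 := by linarith
      rw [he] at hm hnn ⊢
      exact ⟨d i, by omega, by omega, rfl, by push_cast; ring, by simp, by ring, by norm_num,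
        by norm_num⟩
    · obtain he : b i = -2 := by linarith
      rw [he] at hm hnn ⊢
      exact ⟨-(d i : ℤ), by omega, by omega, by ring, by push_cast; field_simp; all_goals norm_num, by simp,
        by ring, by norm_num, by norm_num⟩
  have d14 : ∀ i ∈ R (1, 4, -2), b i = -2 * a i ∧ (-a i * d i) % 9 = 5 ∧ a i % 2 = 1 ∧
      b i % 2 = 0 ∧
      ((a i * b i * (a i + b i) : ℤ) : ℝ) / (d i : ℝ) = -2 / ((-a i * d i : ℤ) : ℝ) ∧
      ((a i * b i * (a i - b i) : ℤ) : ℝ) / (d i : ℝ) = 6 / ((-a i * d i : ℤ) : ℝ) := by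
    intro i hi
    obtain ⟨-, h1, h2, h3⟩ := hR hi
    have hm := D.mod9 i
    rcases unit_or h1 with e | e <;> rw [e] at h3 hm ⊢
    · obtain he : b i = -2 := by linarith
      rw [he] at hm ⊢
      exact ⟨by norm_num, by omega, by norm_num, by norm_num, by push_cast; field_simp; all_goals norm_num,
        by push_cast; field_simp; all_goals norm_num⟩
    · obtain he : b i = 2 := by linarith
      rw [he] at hm ⊢
      exact ⟨by norm_num, by omega, by norm_num, by norm_num, by push_cast; field_simp; all_goals norm_num,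
        by push_cast; field_simp; all_goals norm_num⟩
  have d41 : ∀ i ∈ R (4, 1, -2), a i = -2 * b i ∧ (-b i * d i) % 9 = 5 ∧ b i % 2 = 1 ∧
      a i % 2 = 0 ∧
      ((a i * b i * (a i + b i) : ℤ) : ℝ) / (d i : ℝ) = -2 / ((-b i * d i : ℤ) : ℝ) ∧
      ((a i * b i * (a i - b i) : ℤ) : ℝ) / (d i : ℝ) = -6 / ((-b i * d i : ℤ) : ℝ) := by
    intro i hi
    obtain ⟨-, h1, h2, h3⟩ := hR hi
    have hm := D.mod9 i
    rcases unit_or h2 with e | e <;> rw [e] at h3 hm ⊢
    · obtain he : a i = -2 := by linarith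
      rw [he] at hm ⊢
      exact ⟨by norm_num, by omega, by norm_num, by norm_num, by push_cast; field_simp; all_goals norm_num,
        by push_cast; field_simp; all_goals norm_num⟩
    · obtain he : a i = 2 := by linarith
      rw [he] at hm ⊢
      exact ⟨by norm_num, by omega, by norm_num, by norm_num, by push_cast; field_simp; all_goals norm_num,
        by push_cast; field_simp; all_goals norm_num⟩
  have d09 : ∀ k ∈ ({(0, 9, 0), (9, 0, 0)} : Finset (ℤ × ℤ × ℤ)), ∀ i ∈ R k,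
      a i * b i = 0 := by
    intro k hk i hi
    simp only [Finset.mem_insert, Finset.mem_singleton] at hk
    rcases hk with rfl | rfl <;> exact (hR hi).2.2.2
  have s09 : ∀ (k : ℤ × ℤ × ℤ) (f : ι → ℤ), k ∈ ({(0, 9, 0), (9, 0, 0)} : Finset (ℤ × ℤ × ℤ)) →
      ∑ i ∈ R k, ((a i * b i * f i : ℤ) : ℝ) / (d i : ℝ) = 0 := fun k f hk =>
    Finset.sum_eq_zero fun i hi => by simp [d09 k hk i hi]
  rw [s09 (0, 9, 0) _ (by simp), s09 (9, 0, 0) _ (by simp),
    Finset.sum_congr rfl (fun i hi => (d11 i hi).2.2.1),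
    Finset.sum_congr rfl (fun i hi => (d14 i hi).2.2.2.2.1),
    Finset.sum_congr rfl (fun i hi => (d41 i hi).2.2.2.2.1)] at hB
  rw [s09 (0, 9, 0) _ (by simp), s09 (9, 0, 0) _ (by simp),
    Finset.sum_eq_zero (s := R (1, 1, 1)) (fun i hi => (d11 i hi).2.2.2.1),
    Finset.sum_congr rfl (fun i hi => (d14 i hi).2.2.2.2.2),
    Finset.sum_congr rfl (fun i hi => (d41 i hi).2.2.2.2.2)] at hW
  have h44 : (R (4, 4, 4)).card ≤ 1 := by omega
  have h09 : (R (0, 9, 0)).card ≤ 1 := by omega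
  have h90 : (R (9, 0, 0)).card ≤ 1 := by omega
  have hsq : ∀ W : Finset ι, i₀ ∉ W → 1 + ∑ i ∈ W, (d i : ℤ) * d i ≤ 72 * (n : ℤ) := by
    intro W hW'
    have h1 : ∑ i ∈ insert i₀ W, (d i : ℤ) * d i ≤ ∑ i, (d i : ℤ) * d i :=
      Finset.sum_le_sum_of_subset_of_nonneg (Finset.subset_univ _)
        fun i _ _ => mul_self_nonneg _
    rw [Finset.sum_insert hW', D.d0] at h1
    have h2 : ∑ i, (d i : ℤ) * d i = 72 * (n : ℤ) := by
      have := D.dd
      simp only [sq] at this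
      exact_mod_cast this
    push_cast at h1
    linarith
  have hdisj : ∀ {k k' : ℤ × ℤ × ℤ}, k ≠ k' → Disjoint (R k) (R k') := fun hk =>
    Finset.disjoint_left.2 fun i hi hi' => hk (by
      rw [← (Finset.mem_filter.1 hi).2, ← (Finset.mem_filter.1 hi').2])
  have hlin11 : ∀ m, d m = 1 → g m ≠ 1 → m ∈ R (1, 1, 1) := by
    intro m hm hgm
    obtain ⟨h1, h2⟩ := D.lin m hm
    exact Finset.mem_filter.2 ⟨Finset.mem_erase.2 ⟨fun e => hgm (by rw [e, D.g0]),
      Finset.mem_univ _⟩, by simp [key, h1, h2]⟩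
  have t44 : (R (4, 4, 4)).card = 0 ∨ (R (4, 4, 4)).card = 1 := by omega
  have t09 : (R (0, 9, 0)).card = 0 ∨ (R (0, 9, 0)).card = 1 := by omega
  have t90 : (R (9, 0, 0)).card = 0 ∨ (R (9, 0, 0)).card = 1 := by omega
  rcases (show ((R (1, 1, 1)).card = 3 ∧ (R (4, 4, 4)).card = 1 ∧ (R (1, 4, -2)).card = 2 ∧
      (R (4, 1, -2)).card = 2 ∧ (R (0, 9, 0)).card = 0 ∧ (R (9, 0, 0)).card = 0) ∨
      ((R (1, 1, 1)).card = 3 ∧ (R (4, 4, 4)).card = 0 ∧ (R (1, 4, -2)).card = 1 ∧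
        (R (4, 1, -2)).card = 1) ∨
      ((R (1, 1, 1)).card = 1 ∧ (R (4, 4, 4)).card = 1 ∧
        ((R (1, 4, -2)).card = 0 ∨ (R (4, 1, -2)).card = 0)) by
    rcases t44 with e1 | e1 <;> rcases t09 with e2 | e2 <;> rcases t90 with e3 | e3 <;> omega) with
    ⟨c11, c44, c14, c41, c09, c90⟩ | ⟨c11, c44, c14, c41⟩ | ⟨c11, c44, cmix⟩
  · -- the general pattern
    obtain ⟨p, q, r, hpq, hpr, hqr, e11⟩ := Finset.card_eq_three.1 c11
    obtain ⟨t, e44⟩ := Finset.card_eq_one.1 c44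
    obtain ⟨u, u', huu, e14⟩ := Finset.card_eq_two.1 c14
    obtain ⟨v, v', hvv, e41⟩ := Finset.card_eq_two.1 c41
    have e09 := Finset.card_eq_zero.1 c09
    have e90 := Finset.card_eq_zero.1 c90
    obtain ⟨T, hT, hT7, hTT, hTsum, hTdiff, hT21, hta, htb⟩ := d44 t (by simp [e44])
    have g11 : ∀ i ∈ R (1, 1, 1), a i % 2 = 1 ∧ b i % 2 = 1 := fun i hi => by
      obtain ⟨-, h1, h2, -⟩ := hR hi
      exact ⟨by rw [← hpar, h1]; rfl, by rw [← hpar, h2]; rfl⟩
    -- the odd rows take the values `±1`, the others vanish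
    have hexact : ∀ (v w : ι → ℤ) (kv : ℤ × ℤ × ℤ → ℤ),
        (∀ i ∈ E, v i % 2 ≤ w i * w i ∧ ∑ j ∈ E, w j * w j = 5) →
        (∀ i ∈ E, v i % 2 = kv (key i)) → (∑ k ∈ keys, ((R k).card : ℤ) * kv k = 5) →
        ∀ i ∈ E, w i * w i = v i % 2 := by
      intro v w kv hvw hkv htot i hi
      have h5 := hval (fun i => v i % 2) kv hkv
      rw [htot, ← (hvw i hi).2] at h5
      exact (((Finset.sum_eq_sum_iff_of_le fun j hj => (hvw j hj).1).1 h5) i hi).symm
    have hga := hexact a g (fun k => k.1 % 2) hgA (fun i _ => (hpar _).symm) (by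
      rw [sum_keys]; simp [z1, z2, z3, z4, z5, z6, hX, c11, c44, c14, c41, c09, c90])
    have hhb := hexact b h (fun k => k.2.1 % 2) hgB (fun i _ => (hpar _).symm) (by
      rw [sum_keys]; simp [z1, z2, z3, z4, z5, z6, hX, c11, c44, c14, c41, c09, c90])
    have hmemE : ∀ {i k}, i ∈ R k → i ∈ E := fun hi => (Finset.mem_filter.1 hi).1
    have hga0 : ∀ {i k}, i ∈ R k → a i % 2 = 0 → g i = 0 := fun hi he =>
      mul_self_eq_zero.1 ((hga _ (hmemE hi)).trans he)
    have hhb0 : ∀ {i k}, i ∈ R k → b i % 2 = 0 → h i = 0 := fun hi he =>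
      mul_self_eq_zero.1 ((hhb _ (hmemE hi)).trans he)
    have hz0 : ∀ i ∈ R (0, 0, 0), g i = 0 ∧ h i = 0 := fun i hi =>
      ⟨hga0 hi (by simp [(hzero i hi).1]), hhb0 hi (by simp [(hzero i hi).2])⟩
    have hmp : p ∈ R (1, 1, 1) := by simp [e11]
    have hmq : q ∈ R (1, 1, 1) := by simp [e11]
    have hmr : r ∈ R (1, 1, 1) := by simp [e11]
    have hmt : t ∈ R (4, 4, 4) := by simp [e44]
    have hmu : u ∈ R (1, 4, -2) := by simp [e14]
    have hmu' : u' ∈ R (1, 4, -2) := by simp [e14]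
    have hmv : v ∈ R (4, 1, -2) := by simp [e41]
    have hmv' : v' ∈ R (4, 1, -2) := by simp [e41]
    have hrows : ∀ F : ι → ℤ, (∀ i ∈ R (0, 0, 0), F i = 0) → ∑ i, F i =
        F i₀ + (F p + F q + F r + F t + (F u + F u') + (F v + F v')) := by
      intro F hF
      rw [hsplit F hF, sum_keys₆, e11, e44, e14, e41, e09, e90, Finset.sum_pair huu,
        Finset.sum_pair hvv, Finset.sum_singleton, Finset.sum_empty,
        Finset.sum_insert (by simp [hpq, hpr]), Finset.sum_pair hqr]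
      ring
    have gt := hga0 hmt hta
    have ht := hhb0 hmt htb
    have gv := hga0 hmv (d41 v hmv).2.2.2.1
    have gv' := hga0 hmv' (d41 v' hmv').2.2.2.1
    have hu := hhb0 hmu (d14 u hmu).2.2.2.1
    have hu' := hhb0 hmu' (d14 u' hmu').2.2.2.1
    have eAG := (hrows _ (fun i hi => by simp [(hzero i hi).1])).symm.trans D.ag
    have eBG := (hrows _ (fun i hi => by simp [(hzero i hi).2])).symm.trans D.bg
    have eAH := (hrows _ (fun i hi => by simp [(hzero i hi).1])).symm.trans D.ah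
    have eBH := (hrows _ (fun i hi => by simp [(hzero i hi).2])).symm.trans D.bh
    have eGH := (hrows _ (fun i hi => by simp [(hz0 i hi).1])).symm.trans D.gh
    have eDG := (hrows _ (fun i hi => by simp [(hz0 i hi).1])).symm.trans D.dg
    have eDH := (hrows _ (fun i hi => by simp [(hz0 i hi).2])).symm.trans D.dh
    have eDA := (hrows _ (fun i hi => by simp [(hzero i hi).1])).symm.trans D.da
    have eDB := (hrows _ (fun i hi => by simp [(hzero i hi).2])).symm.trans D.db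
    simp only [D.a0, D.b0, D.g0, D.h0, D.d0, gt, ht, gv, gv', hu, hu', (d11 p hmp).1, (d11 q hmq).1,
      (d11 r hmr).1, (d14 u hmu).1, (d14 u' hmu').1, (d41 v hmv).1, (d41 v' hmv').1,
      mul_zero, zero_mul, add_zero, zero_add, Nat.cast_one, one_mul] at eAG eBG eAH eBH eGH eDG eDH eDA eDB
    have hu0 : a u * g u + a u' * g u' = 0 := by linarith
    have hv0 : b v * h v + b v' * h v' = 0 := by linarith
    have hunit : ∀ i ∈ R (1, 1, 1), a i * a i = 1 ∧ g i * g i = 1 ∧ h i * h i = 1 := fun i hi =>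
      ⟨(hR hi).2.1, (hga i (hmemE hi)).trans (g11 i hi).1, (hhb i (hmemE hi)).trans (g11 i hi).2⟩
    have hek : ∀ i ∈ R (1, 1, 1), (a i * g i) * (a i * g i) = 1 ∧
        (a i * h i) * (a i * h i) = 1 ∧ (a i * g i) * (a i * h i) = g i * h i := by
      intro i hi
      obtain ⟨h1, h2, h3⟩ := hunit i hi
      refine ⟨?_, ?_, ?_⟩
      · linear_combination (g i * g i) * h1 + h2
      · linear_combination (h i * h i) * h1 + h3
      · linear_combination (g i * h i) * h1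
    obtain ⟨x, y, z, hxyz, ⟨hxe, hxk⟩, ⟨hye, hyk⟩, hze, hzk⟩ := label3 p q r
      (fun i => a i * g i) (fun i => a i * h i) ⟨(hek p hmp).1, (hek p hmp).2.1⟩
      ⟨(hek q hmq).1, (hek q hmq).2.1⟩ ⟨(hek r hmr).1, (hek r hmr).2.1⟩ (by linarith)
      (by linarith) (by rw [(hek p hmp).2.2, (hek q hmq).2.2, (hek r hmr).2.2]; linarith)
    have hxy : x ≠ y := fun e => by rw [e, hye] at hxe; norm_num at hxe
    have hxz : x ≠ z := fun e => by rw [e, hzk] at hxk; norm_num at hxk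
    have hyz : y ≠ z := fun e => by rw [e, hze] at hye; norm_num at hye
    have hR11 : R (1, 1, 1) = {x, y, z} := e11.trans hxyz.symm
    have hmx : x ∈ R (1, 1, 1) := by simp [hR11]
    have hmy : y ∈ R (1, 1, 1) := by simp [hR11]
    have hmz : z ∈ R (1, 1, 1) := by simp [hR11]
    have hthree : ∀ F : ι → ℤ, F p + F q + F r = F x + F y + F z := by
      intro F
      have h1 : ∑ i ∈ ({p, q, r} : Finset ι), F i = ∑ i ∈ ({x, y, z} : Finset ι), F i := by
        rw [hxyz]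
      rw [Finset.sum_insert (by simp [hpq, hpr]), Finset.sum_pair hqr,
        Finset.sum_insert (by simp [hxy, hxz]), Finset.sum_pair hyz] at h1
      linarith
    set Px := a x * d x with hPx
    set Py := a y * d y with hPy
    set Pz := a z * d z with hPz
    set Du := -a u * d u with hDu
    set Eu := -a u' * d u' with hEu
    set Lv := -b v * d v with hLv
    set Mv := -b v' * d v' with hMv
    have hdg : ∀ i ∈ R (1, 1, 1), (d i : ℤ) * g i = a i * g i * (a i * d i) ∧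
        (d i : ℤ) * h i = a i * h i * (a i * d i) := fun i hi =>
      ⟨by linear_combination -((d i : ℤ) * g i) * (hunit i hi).1,
        by linear_combination -((d i : ℤ) * h i) * (hunit i hi).1⟩
    have hug : (d u : ℤ) * g u = -(a u * g u) * Du ∧ (d u' : ℤ) * g u' = a u * g u * Eu := by
      constructor
      · rw [hDu]; linear_combination -((d u : ℤ) * g u) * (hR hmu).2.1
      · rw [hEu, show a u * g u = -(a u' * g u') by linarith]
        linear_combination -((d u' : ℤ) * g u') * (hR hmu').2.1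
    have hvh : (d v : ℤ) * h v = -(b v * h v) * Lv ∧ (d v' : ℤ) * h v' = b v * h v * Mv := by
      constructor
      · rw [hLv]; linear_combination -((d v : ℤ) * h v) * (hR hmv).2.2.1
      · rw [hMv, show b v * h v = -(b v' * h v') by linarith]
        linear_combination -((d v' : ℤ) * h v') * (hR hmv').2.2.1
    have hη : a u * g u = 1 ∨ a u * g u = -1 := unit_or (by
      linear_combination (g u * g u) * (hR hmu).2.1 +
        (hga u (hmemE hmu)).trans (d14 u hmu).2.2.1)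
    have hζ : b v * h v = 1 ∨ b v * h v = -1 := unit_or (by
      linear_combination (h v * h v) * (hR hmv).2.2.1 +
        (hhb v (hmemE hmv)).trans (d41 v hmv).2.2.1)
    rw [hthree (fun i => (d i : ℤ) * g i), (hdg x hmx).1, (hdg y hmy).1, (hdg z hmz).1, hxe, hye,
      hze, hug.1, hug.2] at eDG
    rw [hthree (fun i => (d i : ℤ) * h i), (hdg x hmx).2, (hdg y hmy).2, (hdg z hmz).2, hxk, hyk,
      hzk, hvh.1, hvh.2] at eDH
    have h3' := hthree (fun i => (d i : ℤ) * a i)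
    have htab : a t = b t := by
      obtain ⟨-, k1, k2, k3⟩ := hR hmt
      refine sub_eq_zero.1 (mul_self_eq_zero.1 (?_ : (a t - b t) * (a t - b t) = 0))
      dsimp only at k1 k2 k3
      linarith
    rw [htab] at eDA hT21
    have eW : Du + Eu = Lv + Mv := by rw [hDu, hEu, hLv, hMv]; linarith
    have eV : 1 + Px + Py + Pz + 2 * T + Lv + Mv = 0 := by
      rw [hPx, hPy, hPz, hLv, hMv]; linarith
    rw [e11, e44, e14, e41, Finset.sum_pair huu, Finset.sum_pair hvv, Finset.sum_singleton,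
      hTsum] at hB
    rw [e14, e41, Finset.sum_pair huu, Finset.sum_pair hvv, e44, Finset.sum_singleton, hTdiff] at hW
    rw [← e11, hR11, Finset.sum_insert (by simp [hxy, hxz]), Finset.sum_pair hyz] at hB
    rw [← hDu, ← hEu, ← hLv, ← hMv] at hW
    rw [← hPx, ← hPy, ← hPz, ← hDu, ← hEu, ← hLv, ← hMv] at hB
    have hDu5 := (d14 u hmu).2.1
    have hEu5 := (d14 u' hmu').2.1
    have hLv5 := (d41 v hmv).2.1
    have hMv5 := (d41 v' hmv').2.1
    rw [← hDu] at hDu5; rw [← hEu] at hEu5; rw [← hLv] at hLv5; rw [← hMv] at hMv5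
    have hD0 : (Du : ℝ) ≠ 0 := Int.cast_ne_zero.2 (by omega)
    have hE0 : (Eu : ℝ) ≠ 0 := Int.cast_ne_zero.2 (by omega)
    have hL0 : (Lv : ℝ) ≠ 0 := Int.cast_ne_zero.2 (by omega)
    have hM0 : (Mv : ℝ) ≠ 0 := Int.cast_ne_zero.2 (by omega)
    have hinvs : 1 / (Du : ℝ) + 1 / (Eu : ℝ) = 1 / (Lv : ℝ) + 1 / (Mv : ℝ) := by
      norm_num at hW
      linear_combination (1 / 6 : ℝ) * hW
    have hprod : Du * Eu = Lv * Mv := by
      rw [div_add_div _ _ hD0 hE0, div_add_div _ _ hL0 hM0,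
        div_eq_div_iff (mul_ne_zero hD0 hE0) (mul_ne_zero hL0 hM0), one_mul, mul_one, one_mul,
        mul_one] at hinvs
      have h1 : (Eu + Du) * (Lv * Mv) = (Mv + Lv) * (Du * Eu) := by exact_mod_cast hinvs
      rw [show Mv + Lv = Eu + Du by linarith] at h1
      exact (mul_left_cancel₀ (by omega : Eu + Du ≠ 0) h1).symm
    have hdelta : Lv - Mv = Du - Eu ∨ Lv - Mv = Eu - Du := by
      have : (Lv - Mv - (Du - Eu)) * (Lv - Mv - (Eu - Du)) = 0 := by
        linear_combination (-(Lv + Mv) - (Du + Eu)) * eW + 4 * hprod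
      rcases mul_eq_zero.1 this with h | h
      · exact Or.inl (sub_eq_zero.1 h)
      · exact Or.inr (sub_eq_zero.1 h)
    have hLM : Lv * Lv + Mv * Mv = Du * Du + Eu * Eu := by
      linear_combination (-(Lv + Mv) - (Du + Eu)) * eW + 2 * hprod
    have hsq' : 1 + T ^ 2 + Px ^ 2 + Py ^ 2 + Pz ^ 2 + 2 * Du ^ 2 + 2 * Eu ^ 2 ≤ 72 * (n : ℤ) := by
      have hni : i₀ ∉ R (1, 1, 1) ∪ R (4, 4, 4) ∪ R (1, 4, -2) ∪ R (4, 1, -2) := by
        simp only [Finset.mem_union]
        rintro (((h | h) | h) | h) <;> exact (hR h).1 rfl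
      have h1 := hsq _ hni
      rw [Finset.sum_union (by simp only [Finset.disjoint_union_left]
                               exact ⟨⟨hdisj (by decide), hdisj (by decide)⟩, hdisj (by decide)⟩),
        Finset.sum_union (by simp only [Finset.disjoint_union_left]
                             exact ⟨hdisj (by decide), hdisj (by decide)⟩),
        Finset.sum_union (hdisj (by decide)), hR11, e44, e14, e41,
        Finset.sum_insert (by simp [hxy, hxz]), Finset.sum_pair hyz, Finset.sum_singleton,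
        Finset.sum_pair huu, Finset.sum_pair hvv, ← hTT] at h1
      have sqs : ∀ {i : ι} {e : ℤ}, e * e = 1 → (e * d i) ^ 2 = (d i : ℤ) * d i := fun {i e} he => by
        linear_combination ((d i : ℤ) * d i) * he
      have ex := sqs (i := x) (hunit x hmx).1
      have ey := sqs (i := y) (hunit y hmy).1
      have ez := sqs (i := z) (hunit z hmz).1
      have eu := sqs (i := u) (e := -a u) (by linarith [(hR hmu).2.1])
      have eu' := sqs (i := u') (e := -a u') (by linarith [(hR hmu').2.1])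
      have ev := sqs (i := v) (e := -b v) (by linarith [(hR hmv).2.2.1])
      have ev' := sqs (i := v') (e := -b v') (by linarith [(hR hmv').2.2.1])
      rw [← hPx] at ex; rw [← hPy] at ey; rw [← hPz] at ez; rw [← hDu] at eu
      rw [← hEu] at eu'; rw [← hLv] at ev; rw [← hMv] at ev'
      linarith
    have hB' : (n : ℝ) * (2 + 16 / (T : ℝ) + 2 / (Px : ℝ) + 2 / (Py : ℝ) + 2 / (Pz : ℝ) -
        4 / (Du : ℝ) - 4 / (Eu : ℝ)) = 18 := by
      norm_num at hB
      rw [← hB]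
      linear_combination (-2 * (n : ℝ)) * hinvs
    have hPx1 := (d11 x hmx).2.1
    have hPy1 := (d11 y hmy).2.1
    have hPz1 := (d11 z hmz).2.1
    rw [← hPx] at hPx1; rw [← hPy] at hPy1; rw [← hPz] at hPz1
    by_cases hx1 : Px = 1
    · refine case_linear n D.hn D.hn1 T Py Pz Du Eu hT hT7 hPy1 hPz1 hDu5 hEu5
        (by rw [hx1] at hsq'; linarith) ?_
      rw [hx1] at hB'
      norm_num at hB'
      linear_combination hB'
    -- no linear row takes the values `-1, -1`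
    have hnolin : ∀ m, d m = 1 → g m = -1 → h m = -1 → False := by
      intro m hm hgm hhm
      have hmR := hlin11 m hm (by rw [hgm]; norm_num)
      rw [hR11] at hmR
      simp only [Finset.mem_insert, Finset.mem_singleton] at hmR
      have ha1 := (D.lin m hm).1
      rcases hmR with e | e | e <;> rw [e] at hm hgm hhm ha1
      · exact hx1 (by rw [hPx, hm, ha1]; rfl)
      · rw [ha1, hgm] at hye; norm_num at hye
      · rw [ha1, hhm] at hzk; norm_num at hzk
    have hne8 : ∀ i ∈ R (1, 1, 1), a i * d i ≠ -8 := fun i hi e => by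
      obtain ⟨h8, ha8⟩ := (d11 i hi).2.2.2.2.1 e
      obtain ⟨m, hm, hgm, hhm⟩ := D.eight i h8 ha8 ((d11 i hi).1.trans ha8)
      exact hnolin m hm hgm hhm
    have hy1 : Py = Pz → Py ≠ 1 := fun he e => by
      obtain ⟨hy, hay⟩ := (d11 y hmy).2.2.2.2.2 e
      obtain ⟨hz, haz⟩ := (d11 z hmz).2.2.2.2.2 (hPz.symm.trans (he.symm.trans e))
      obtain ⟨m, hm, hgm, hhm⟩ := D.linmul y z hy hz
      rw [hay] at hye hyk
      rw [haz] at hze hzk
      rw [one_mul] at hye hyk hze hzk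
      exact hnolin m hm (by rw [hgm, hye, hze]; rfl) (by rw [hhm, hyk, hzk]; rfl)
    have hPx8 : Px ≠ -8 := hne8 x hmx
    have hPy8 : Py ≠ -8 := hne8 y hmy
    have fin : ∀ U U' : ℤ, U % 9 = 5 → U' % 9 = 5 → Px = 1 + U - U' → Py = Pz →
        Py = -1 - T - U → (U = Du ∧ U' = Eu ∨ U = Eu ∧ U' = Du) → n = 10 := by
      intro U U' hU hU' hxU hyz' hyU hUU
      refine case_general n D.hn D.hn1 T Px Py U U' hT hT7 hPx1 hx1 hPx8 hPy1 (hy1 hyz') hPy8
        hU hU' hyU hxU ?_ ?_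
      · rw [← hyz'] at hsq'
        rcases hUU with ⟨rfl, rfl⟩ | ⟨rfl, rfl⟩ <;> linarith
      · rw [← hyz'] at hB'
        rcases hUU with ⟨rfl, rfl⟩ | ⟨rfl, rfl⟩ <;> linear_combination hB'
    rcases hη with e1 | e1 <;> rw [e1] at eDG <;> rcases hζ with e2 | e2 <;> rw [e2] at eDH <;>
      rcases hdelta with e3 | e3 <;>
      first
        | exact absurd (by linarith : Px = 1) hx1
        | exact fin Du Eu hDu5 hEu5 (by linarith) (by linarith) (by linarith) (Or.inl ⟨rfl, rfl⟩)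
        | exact fin Eu Du hEu5 hDu5 (by linarith) (by linarith) (by linarith) (Or.inr ⟨rfl, rfl⟩)
  · -- three rows `±(1,1)` and one of each other kind
    obtain ⟨p, q, r, hpq, hpr, hqr, e11⟩ := Finset.card_eq_three.1 c11
    obtain ⟨u, e14⟩ := Finset.card_eq_one.1 c14
    obtain ⟨v, e41⟩ := Finset.card_eq_one.1 c41
    rw [e14, e41, Finset.card_eq_zero.1 c44, Finset.sum_singleton, Finset.sum_singleton,
      Finset.sum_empty] at hW hB
    rw [e11, Finset.sum_insert (by simp [hpq, hpr]), Finset.sum_pair hqr] at hB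
    norm_num at hW
    have hmp : p ∈ R (1, 1, 1) := by simp [e11]
    have hmq : q ∈ R (1, 1, 1) := by simp [e11]
    have hmr : r ∈ R (1, 1, 1) := by simp [e11]
    have hmu : u ∈ R (1, 4, -2) := by simp [e14]
    have h8 : ∀ i ∈ R (1, 1, 1), a i * d i = -8 →
        a p * d p = 1 ∨ a q * d q = 1 ∨ a r * d r = 1 := by
      intro i hi e
      obtain ⟨h8, ha8⟩ := (d11 i hi).2.2.2.2.1 e
      obtain ⟨m, hm, hgm, -⟩ := D.eight i h8 ha8 ((d11 i hi).1.trans ha8)
      have hmR := hlin11 m hm (by rw [hgm]; norm_num)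
      have ha1 := (D.lin m hm).1
      rw [e11] at hmR
      simp only [Finset.mem_insert, Finset.mem_singleton] at hmR
      rcases hmR with e | e | e <;> rw [e] at hm ha1 <;> simp [hm, ha1]
    refine case_six n D.hn D.hn1 (a p * d p) (a q * d q) (a r * d r) (-a u * d u) (d11 p hmp).2.1
      (d11 q hmq).2.1 (d11 r hmr).2.1 (d14 u hmu).2.1 ?_ ?_ ?_
    · rintro (e | e | e)
      exacts [h8 p hmp e, h8 q hmq e, h8 r hmr e]
    · have hni : i₀ ∉ R (1, 1, 1) ∪ R (1, 4, -2) := by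
        simp only [Finset.mem_union]
        rintro (h | h) <;> exact (hR h).1 rfl
      have h1 := hsq _ hni
      rw [Finset.sum_union (hdisj (by decide)), e11, e14, Finset.sum_singleton,
        Finset.sum_insert (by simp [hpq, hpr]), Finset.sum_pair hqr] at h1
      have sqs : ∀ {i : ι} {e : ℤ}, e * e = 1 → (e * d i) ^ 2 = (d i : ℤ) * d i := fun {i e} he => by
        linear_combination ((d i : ℤ) * d i) * he
      rw [sqs (hR hmp).2.1, sqs (hR hmq).2.1, sqs (hR hmr).2.1,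
        sqs (e := -a u) (by linarith [(hR hmu).2.1])]
      linarith
    · norm_num at hB
      push_cast
      linear_combination hB + (-(n : ℝ) / 3) * hW
  · -- one row `±(1,1)` and one row `±(2,2)`
    obtain ⟨p, e11⟩ := Finset.card_eq_one.1 c11
    obtain ⟨t, e44⟩ := Finset.card_eq_one.1 c44
    obtain ⟨T, hT, hT7, hTT, hTsum, hTdiff, -, -, -⟩ := d44 t (by simp [e44])
    have hmp : p ∈ R (1, 1, 1) := by simp [e11]
    rw [e44, Finset.sum_singleton, hTdiff] at hW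
    rw [e44, e11, Finset.sum_singleton, Finset.sum_singleton, hTsum] at hB
    have hfrac : ∀ (k : ℤ × ℤ × ℤ) (c : ℝ) (f : ι → ℤ),
        ∑ i ∈ R k, c / (f i : ℝ) = c * ∑ i ∈ R k, 1 / (f i : ℝ) := fun k c f => by
      rw [Finset.mul_sum]; exact Finset.sum_congr rfl fun i _ => by ring
    rw [hfrac (1, 4, -2) 6, hfrac (4, 1, -2) (-6)] at hW
    rw [hfrac (1, 4, -2) (-2), hfrac (4, 1, -2) (-2)] at hB
    refine case_one n D.hn D.hn1 (a p * d p) T (d11 p hmp).2.1 hT hT7 ?_ ?_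
    · have hni : i₀ ∉ R (1, 1, 1) ∪ R (4, 4, 4) := by
        simp only [Finset.mem_union]
        rintro (h | h) <;> exact (hR h).1 rfl
      have h1 := hsq _ hni
      rw [Finset.sum_union (hdisj (by decide)), e11, e44, Finset.sum_singleton,
        Finset.sum_singleton, ← hTT] at h1
      rw [show (a p * d p) ^ 2 = (d p : ℤ) * d p by
        linear_combination ((d p : ℤ) * d p) * (hR hmp).2.1]
      linarith
    · set X := ∑ i ∈ R (1, 4, -2), 1 / ((-a i * (d i : ℤ) : ℤ) : ℝ) with hX'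
      set Y := ∑ i ∈ R (4, 1, -2), 1 / ((-b i * (d i : ℤ) : ℤ) : ℝ) with hY'
      have hXY : X + Y = 0 := by
        push_cast at hW
        rcases cmix with c | c
        · have h0 : X = 0 := by rw [hX', Finset.card_eq_zero.1 c, Finset.sum_empty]
          linarith
        · have h0 : Y = 0 := by rw [hY', Finset.card_eq_zero.1 c, Finset.sum_empty]
          linarith
      clear_value X Y
      push_cast at hB ⊢
      linear_combination hB + 2 * (n : ℝ) * hXY

end Cfsg.Agent.SixSym
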