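import Cfsg.Agent.SixSym.Finite

/-!
# The four patterns of character rows, in signed degrees

In each, `n` is the group order divided by 72 and the hypothesis `hB` is the class multiplication
equation.
-/

set_option autoImplicit false

namespace Cfsg.Agent.SixSym

theorem inv_ge {x : ℤ} {k : ℝ} (hk : 0 < k) (h : (x : ℝ) ≤ -k ∨ 0 < (x : ℝ)) :
    -(1 / k) ≤ 1 / (x : ℝ) := by
  rcases h with h | h
  · rw [neg_le, one_div, one_div, ← inv_neg]
    exact inv_anti₀ hk (by linarith)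
  · have h1 : 0 < 1 / (x : ℝ) := one_div_pos.2 h
    have h2 : 0 < 1 / k := one_div_pos.2 hk
    linarith

theorem inv_le {x : ℤ} {k : ℝ} (hk : 0 < k) (h : k ≤ (x : ℝ) ∨ (x : ℝ) < 0) :
    1 / (x : ℝ) ≤ 1 / k := by
  rcases h with h | h
  · exact one_div_le_one_div_of_le hk h
  · have h1 : 1 / (x : ℝ) < 0 := one_div_neg.2 h
    have h2 : 0 < 1 / k := one_div_pos.2 hk
    linarith

/-- `1/x` is at least `-1/k` when `x ≡ r` avoids the small negative values. -/
theorem inv_ge' {x : ℤ} (k : ℤ) (hk : 0 < k) (h : x ≤ -k ∨ 0 < x) :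
    -(1 / (k : ℝ)) ≤ 1 / (x : ℝ) :=
  inv_ge (by exact_mod_cast hk) (h.imp (fun h => by exact_mod_cast h) fun h => by exact_mod_cast h)

theorem inv_le' {x : ℤ} (k : ℤ) (hk : 0 < k) (h : k ≤ x ∨ x < 0) :
    1 / (x : ℝ) ≤ 1 / (k : ℝ) :=
  inv_le (by exact_mod_cast hk) (h.imp (fun h => by exact_mod_cast h) fun h => by exact_mod_cast h)

theorem n_le {n : ℕ} {B β : ℝ} (hB : (n : ℝ) * B = 18) (hb : β ≤ B) (hβ : 0 < β) :
    (n : ℝ) ≤ 18 / β := by
  rw [le_div_iff₀ hβ]
  have := mul_le_mul_of_nonneg_left hb (Nat.cast_nonneg n)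
  linarith

theorem n_cases {n : ℕ} (hn : n % 9 = 1) (hn1 : 1 < n) (h : n < 28) : n = 10 ∨ n = 19 := by omega

theorem case_one (n : ℕ) (hn : n % 9 = 1) (hn1 : 1 < n) (P T : ℤ) (hP : P % 9 = 1)
    (hT : T % 9 = 2) (hT7 : T ≠ -7) (hsq : 1 + P ^ 2 + T ^ 2 ≤ 72 * n)
    (hB : (n : ℝ) * (2 + 2 / (P : ℝ) + 16 / (T : ℝ)) = 18) : n = 10 := by
  have h1 := inv_ge' (x := P) 8 (by norm_num) (by omega)
  have h2 := inv_ge' (x := T) 16 (by norm_num) (by omega)
  push_cast at h1 h2
  have hb : (3 / 4 : ℝ) ≤ 2 + 2 / (P : ℝ) + 16 / (T : ℝ) := by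
    rw [show (2 : ℝ) / (P : ℝ) = 2 * (1 / (P : ℝ)) by ring,
      show (16 : ℝ) / (T : ℝ) = 16 * (1 / (T : ℝ)) by ring]
    linarith
  have hn' : n ≤ 24 := by
    have := n_le hB hb (by norm_num)
    norm_num at this
    exact_mod_cast this
  rcases n_cases hn hn1 (by omega) with h | h
  · exact h
  subst h
  exfalso
  push_cast at hsq
  refine check_one P (mem_small (by norm_num) (by norm_num) hP (by nlinarith)) T
    (mem_small (by norm_num) (by norm_num) hT (by nlinarith)) hT7 ?_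
  have hP0 : (P : ℝ) ≠ 0 := by exact_mod_cast (show P ≠ 0 by omega)
  have hT0 : (T : ℝ) ≠ 0 := by exact_mod_cast (show T ≠ 0 by omega)
  field_simp at hB
  push_cast at hB
  exact_mod_cast (by push_cast; linear_combination hB :
    ((19 * (2 * (P * T) + 2 * T + 16 * P) : ℤ) : ℝ) = ((18 * (P * T) : ℤ) : ℝ))

theorem case_six (n : ℕ) (hn : n % 9 = 1) (hn1 : 1 < n) (P Q R E : ℤ) (hP : P % 9 = 1)
    (hQ : Q % 9 = 1) (hR : R % 9 = 1) (hE : E % 9 = 5)
    (hlin : P = -8 ∨ Q = -8 ∨ R = -8 → P = 1 ∨ Q = 1 ∨ R = 1)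
    (hsq : 1 + P ^ 2 + Q ^ 2 + R ^ 2 + E ^ 2 ≤ 72 * n)
    (hB : (n : ℝ) * (2 + 2 / (P : ℝ) + 2 / (Q : ℝ) + 2 / (R : ℝ) - 4 / (E : ℝ)) = 18) :
    n = 10 := by
  have hE1 := inv_le' (x := E) 5 (by norm_num) (by omega)
  push_cast at hE1
  have eP : (2 : ℝ) / (P : ℝ) = 2 * (1 / (P : ℝ)) := by ring
  have eQ : (2 : ℝ) / (Q : ℝ) = 2 * (1 / (Q : ℝ)) := by ring
  have eR : (2 : ℝ) / (R : ℝ) = 2 * (1 / (R : ℝ)) := by ring
  have eE : (4 : ℝ) / (E : ℝ) = 4 * (1 / (E : ℝ)) := by ring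
  by_cases h1 : P = 1 ∨ Q = 1 ∨ R = 1
  · exfalso
    have g1 := inv_ge' (x := P) 8 (by norm_num) (by omega)
    have g2 := inv_ge' (x := Q) 8 (by norm_num) (by omega)
    have g3 := inv_ge' (x := R) 8 (by norm_num) (by omega)
    push_cast at g1 g2 g3
    have hb : (2.7 : ℝ) ≤ 2 + 2 / (P : ℝ) + 2 / (Q : ℝ) + 2 / (R : ℝ) - 4 / (E : ℝ) := by
      rw [eP, eQ, eR, eE]
      rcases h1 with e | e | e <;> (subst e; norm_num at g1 g2 g3 hE1 ⊢; linarith)
    have := n_le hB hb (by norm_num)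
    have h10 : (10 : ℝ) ≤ n := by exact_mod_cast (show 10 ≤ n by omega)
    norm_num at this
    linarith
  have g1 := inv_ge' (x := P) 17 (by norm_num) (by omega)
  have g2 := inv_ge' (x := Q) 17 (by norm_num) (by omega)
  have g3 := inv_ge' (x := R) 17 (by norm_num) (by omega)
  push_cast at g1 g2 g3
  have hb : (0.84 : ℝ) ≤ 2 + 2 / (P : ℝ) + 2 / (Q : ℝ) + 2 / (R : ℝ) - 4 / (E : ℝ) := by
    rw [eP, eQ, eR, eE]
    linarith
  have hn' : n < 28 := by
    have := n_le hB hb (by norm_num)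
    norm_num at this
    exact_mod_cast (by linarith : (n : ℝ) < 28)
  rcases n_cases hn hn1 hn' with h | h
  · exact h
  subst h
  exfalso
  push_cast at hsq
  have := sq_nonneg P; have := sq_nonneg Q; have := sq_nonneg R; have := sq_nonneg E
  refine check_six P (mem_small (by norm_num) (by norm_num) hP (by linarith)) Q
    (mem_small (by norm_num) (by norm_num) hQ (by linarith)) R
    (mem_small (by norm_num) (by norm_num) hR (by linarith)) E
    (mem_small (by norm_num) (by norm_num) hE (by linarith))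
    (by omega) (by omega) (by omega) (by omega) (by omega) (by omega) ?_
  have hP0 : (P : ℝ) ≠ 0 := by exact_mod_cast (show P ≠ 0 by omega)
  have hQ0 : (Q : ℝ) ≠ 0 := by exact_mod_cast (show Q ≠ 0 by omega)
  have hR0 : (R : ℝ) ≠ 0 := by exact_mod_cast (show R ≠ 0 by omega)
  have hE0 : (E : ℝ) ≠ 0 := by exact_mod_cast (show E ≠ 0 by omega)
  field_simp at hB
  push_cast at hB
  exact_mod_cast (by push_cast; linear_combination hB :
    ((19 * (2 * (P * Q * R * E) + 2 * Q * R * E + 2 * P * R * E + 2 * P * Q * E - 4 * P * Q * R) :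
      ℤ) : ℝ) = ((18 * (P * Q * R * E) : ℤ) : ℝ))

theorem case_linear (n : ℕ) (hn : n % 9 = 1) (hn1 : 1 < n) (T P Q D E : ℤ) (hT : T % 9 = 2)
    (hT7 : T ≠ -7) (hP : P % 9 = 1) (hQ : Q % 9 = 1) (hD : D % 9 = 5) (hE : E % 9 = 5)
    (hsq : 1 + T ^ 2 + P ^ 2 + Q ^ 2 + 2 * D ^ 2 + 2 * E ^ 2 ≤ 72 * n)
    (hB : (n : ℝ) * (4 + 16 / (T : ℝ) + 2 / (P : ℝ) + 2 / (Q : ℝ) - 4 / (D : ℝ) - 4 / (E : ℝ)) =
      18) : n = 10 := by
  have g0 := inv_ge' (x := T) 16 (by norm_num) (by omega)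
  have g1 := inv_ge' (x := P) 8 (by norm_num) (by omega)
  have g2 := inv_ge' (x := Q) 8 (by norm_num) (by omega)
  have g3 := inv_le' (x := D) 5 (by norm_num) (by omega)
  have g4 := inv_le' (x := E) 5 (by norm_num) (by omega)
  push_cast at g0 g1 g2 g3 g4
  have hb : (0.9 : ℝ) ≤
      4 + 16 / (T : ℝ) + 2 / (P : ℝ) + 2 / (Q : ℝ) - 4 / (D : ℝ) - 4 / (E : ℝ) := by
    rw [show (16 : ℝ) / (T : ℝ) = 16 * (1 / (T : ℝ)) by ring,
      show (2 : ℝ) / (P : ℝ) = 2 * (1 / (P : ℝ)) by ring,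
      show (2 : ℝ) / (Q : ℝ) = 2 * (1 / (Q : ℝ)) by ring,
      show (4 : ℝ) / (D : ℝ) = 4 * (1 / (D : ℝ)) by ring,
      show (4 : ℝ) / (E : ℝ) = 4 * (1 / (E : ℝ)) by ring]
    linarith
  have hn' : n ≤ 20 := by
    have := n_le hB hb (by norm_num)
    norm_num at this
    exact_mod_cast this
  rcases n_cases hn hn1 (by omega) with h | h
  · exact h
  subst h
  exfalso
  push_cast at hsq
  have := sq_nonneg T; have := sq_nonneg P; have := sq_nonneg Q
  have := sq_nonneg D; have := sq_nonneg E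
  refine check_linear T (mem_small (by norm_num) (by norm_num) hT (by linarith)) P
    (mem_small (by norm_num) (by norm_num) hP (by linarith)) Q
    (mem_small (by norm_num) (by norm_num) hQ (by linarith)) D
    (mem_small (by norm_num) (by norm_num) hD (by linarith)) E
    (mem_small (by norm_num) (by norm_num) hE (by linarith)) hT7 ?_
  have hT0 : (T : ℝ) ≠ 0 := by exact_mod_cast (show T ≠ 0 by omega)
  have hP0 : (P : ℝ) ≠ 0 := by exact_mod_cast (show P ≠ 0 by omega)
  have hQ0 : (Q : ℝ) ≠ 0 := by exact_mod_cast (show Q ≠ 0 by omega)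
  have hD0 : (D : ℝ) ≠ 0 := by exact_mod_cast (show D ≠ 0 by omega)
  have hE0 : (E : ℝ) ≠ 0 := by exact_mod_cast (show E ≠ 0 by omega)
  field_simp at hB
  push_cast at hB
  exact_mod_cast (by push_cast; linear_combination hB :
    ((19 * (4 * (T * P * Q * D * E) + 16 * P * Q * D * E + 2 * T * Q * D * E + 2 * T * P * D * E -
      4 * T * P * Q * E - 4 * T * P * Q * D) : ℤ) : ℝ) = ((18 * (T * P * Q * D * E) : ℤ) : ℝ))

theorem case_general (n : ℕ) (hn : n % 9 = 1) (hn1 : 1 < n) (T P Q D E : ℤ) (hT : T % 9 = 2)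
    (hT7 : T ≠ -7) (hP : P % 9 = 1) (hP1 : P ≠ 1) (hP8 : P ≠ -8) (hQ : Q % 9 = 1) (hQ1 : Q ≠ 1)
    (hQ8 : Q ≠ -8) (hD : D % 9 = 5) (hE : E % 9 = 5) (e1 : Q = -1 - T - D) (e2 : P = 1 + D - E)
    (hsq : 1 + T ^ 2 + P ^ 2 + 2 * Q ^ 2 + 2 * D ^ 2 + 2 * E ^ 2 ≤ 72 * n)
    (hB : (n : ℝ) * (2 + 16 / (T : ℝ) + 4 / (Q : ℝ) + 2 / (P : ℝ) - 4 / (D : ℝ) - 4 / (E : ℝ)) =
      18) : n = 10 := by
  by_contra hne
  have h19 : 19 ≤ n := by omega
  set B := 2 + 16 / (T : ℝ) + 4 / (Q : ℝ) + 2 / (P : ℝ) - 4 / (D : ℝ) - 4 / (E : ℝ) with hBdef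
  have key : (2 / 25 : ℝ) ≤ B ∨ (T = -16 ∧ E = 5 ∧ -80 < Q ∧ Q < 0) := by
    rw [hBdef, show (16 : ℝ) / (T : ℝ) = 16 * (1 / (T : ℝ)) by ring,
      show (4 : ℝ) / (Q : ℝ) = 4 * (1 / (Q : ℝ)) by ring,
      show (2 : ℝ) / (P : ℝ) = 2 * (1 / (P : ℝ)) by ring,
      show (4 : ℝ) / (D : ℝ) = 4 * (1 / (D : ℝ)) by ring,
      show (4 : ℝ) / (E : ℝ) = 4 * (1 / (E : ℝ)) by ring]
    have gP := inv_ge' (x := P) 17 (by norm_num) (by omega)
    have gD := inv_le' (x := D) 5 (by norm_num) (by omega)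
    have gE := inv_le' (x := E) 5 (by norm_num) (by omega)
    push_cast at gP gD gE
    rcases (show 0 < T ∨ (T ≤ -16 ∧ Q < 0) ∨ (T ≤ -16 ∧ 0 < Q) by omega) with hT0 | ⟨hT0, hQ0⟩ |
      ⟨hT0, hQ0⟩
    · left
      have h0 : (0 : ℝ) < 1 / (T : ℝ) := one_div_pos.2 (by exact_mod_cast hT0)
      have gQ := inv_ge' (x := Q) 17 (by norm_num) (by omega)
      push_cast at gQ
      by_cases hD5 : D = 5
      · have := inv_le' (x := E) 14 (by norm_num) (by omega)
        push_cast at this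
        linarith
      · have := inv_le' (x := D) 14 (by norm_num) (by omega)
        push_cast at this
        linarith
    · have gQ := inv_ge' (x := Q) 17 (by norm_num) (by omega)
      have gD' := inv_le' (x := D) 32 (by norm_num) (by omega)
      push_cast at gQ gD'
      by_cases hE5 : E = 5
      · subst hE5
        have hP0 : (0 : ℝ) < 1 / (P : ℝ) :=
          one_div_pos.2 (by exact_mod_cast (show 0 < P by omega))
        by_cases hT16 : T = -16
        · subst hT16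
          by_cases hQ80 : -80 < Q
          · exact Or.inr ⟨rfl, rfl, hQ80, hQ0⟩
          · left
            have h80 := inv_ge' (x := Q) 80 (by norm_num) (by omega)
            have h95 := inv_le' (x := D) 95 (by norm_num) (by omega)
            push_cast at h80 h95 ⊢
            linarith
        · left
          have := inv_ge' (x := T) 25 (by norm_num) (by omega)
          push_cast at this ⊢
          linarith
      · left
        have h14 := inv_le' (x := E) 14 (by norm_num) (by omega)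
        have gT := inv_ge' (x := T) 16 (by norm_num) (by omega)
        push_cast at h14 gT
        linarith
    · left
      have h0 : (0 : ℝ) < 1 / (Q : ℝ) := one_div_pos.2 (by exact_mod_cast hQ0)
      by_cases hDn : D < 0
      · have hd : 1 / (D : ℝ) < 0 := one_div_neg.2 (by exact_mod_cast hDn)
        have gT := inv_ge' (x := T) 16 (by norm_num) (by omega)
        push_cast at gT
        linarith
      · by_cases hT16 : T = -16
        · subst hT16
          obtain rfl : Q = 10 := by omega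
          obtain rfl : D = 5 := by omega
          have := inv_le' (x := E) 14 (by norm_num) (by omega)
          push_cast at this ⊢
          linarith
        · have gT := inv_ge' (x := T) 25 (by norm_num) (by omega)
          push_cast at gT
          by_cases hD5 : D = 5
          · have := inv_le' (x := E) 14 (by norm_num) (by omega)
            push_cast at this
            linarith
          · have := inv_le' (x := D) 14 (by norm_num) (by omega)
            push_cast at this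
            linarith
  have hbound : (-127 ≤ T ∧ T ≤ 127) ∧ (-127 ≤ D ∧ D ≤ 127) ∧ (-127 ≤ E ∧ E ≤ 127) := by
    rcases key with hk | ⟨h1, h2, h3, h4⟩
    · have hn' : n ≤ 225 := by
        have := n_le hB hk (by norm_num)
        norm_num at this
        exact_mod_cast this
      have hn'' : (n : ℤ) ≤ 225 := by exact_mod_cast hn'
      have := sq_nonneg T; have := sq_nonneg P; have := sq_nonneg Q
      have := sq_nonneg D; have := sq_nonneg E
      refine ⟨⟨?_, ?_⟩, ⟨?_, ?_⟩, ⟨?_, ?_⟩⟩ <;> nlinarith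
    · omega
  have hok := check_general T (mem_big (by norm_num) (by norm_num) hT hbound.1.1 hbound.1.2) D
    (mem_big (by norm_num) (by norm_num) hD hbound.2.1.1 hbound.2.1.2) E
    (mem_big (by norm_num) (by norm_num) hE hbound.2.2.1 hbound.2.2.2)
  have hT0 : (T : ℝ) ≠ 0 := by exact_mod_cast (show T ≠ 0 by omega)
  have hP0 : (P : ℝ) ≠ 0 := by exact_mod_cast (show P ≠ 0 by omega)
  have hQ0 : (Q : ℝ) ≠ 0 := by exact_mod_cast (show Q ≠ 0 by omega)
  have hD0 : (D : ℝ) ≠ 0 := by exact_mod_cast (show D ≠ 0 by omega)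
  have hE0 : (E : ℝ) ≠ 0 := by exact_mod_cast (show E ≠ 0 by omega)
  rw [hBdef] at hB
  field_simp at hB
  obtain ⟨num, hnum⟩ : ∃ num : ℤ, num = 2 * (T * Q * P * D * E) + 16 * Q * P * D * E +
      4 * T * P * D * E + 2 * T * Q * D * E - 4 * T * Q * P * E - 4 * T * Q * P * D := ⟨_, rfl⟩
  have hmul : (n : ℤ) * num = 18 * (T * Q * P * D * E) := by
    exact_mod_cast (by rw [hnum]; push_cast; linear_combination hB :
      (((n : ℤ) * num : ℤ) : ℝ) = ((18 * (T * Q * P * D * E) : ℤ) : ℝ))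
  have hden : T * Q * P * D * E ≠ 0 := by
    simp only [mul_ne_zero_iff]
    exact ⟨⟨⟨⟨by omega, by omega⟩, by omega⟩, by omega⟩, by omega⟩
  have hnum0 : num ≠ 0 := fun h => by rw [h, mul_zero] at hmul; omega
  have hdiv : 18 * (T * Q * P * D * E) / num = (n : ℤ) := by
    rw [← hmul, Int.mul_ediv_cancel _ hnum0]
  have hmod : 18 * (T * Q * P * D * E) % num = 0 := by rw [← hmul, Int.mul_emod_left]
  simp only [generalOK, ← e1, ← e2, ← hnum, hdiv, hmod, Bool.or_eq_true, beq_iff_eq, bne_iff_ne,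
    decide_eq_true_eq, ne_eq, not_true_eq_false] at hok
  rcases hok with ((((((((h | h) | h) | h) | h) | h) | h) | h) | h) | h
  · exact hT7 h
  · exact hQ1 h
  · exact hQ8 h
  · exact hP1 h
  · exact hP8 h
  · exact hnum0 h
  · exact h
  · omega
  · omega
  · omega

end Cfsg.Agent.SixSym
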