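import Mathlib

/-!
# The finite searches behind the order of a group with `N(S)/S` dihedral of order 8

`P`, `Q` are signed degrees of rows `(±1,±1)`, `T` of a row `(±2,±2)`, `D`, `E` of rows `(∓1,±2)`
and `(±2,∓1)`.
-/

set_option autoImplicit false

namespace Cfsg.Agent.SixSym

/-- The integers of absolute value at most 36 congruent to `r` modulo 9. -/
def small (r : ℤ) : List ℤ := (List.range 8).map fun i : ℕ => 9 * (i : ℤ) - 36 + r

/-- The integers of absolute value at most 127 congruent to `r` modulo 9. -/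
def big (r : ℤ) : List ℤ := (List.range 30).map fun i : ℕ => 9 * (i : ℤ) - 135 + r

theorem mem_small {r x : ℤ} (hr : 0 < r) (hr' : r < 9) (h : x % 9 = r) (hb : x ^ 2 < 1369) :
    x ∈ small r := by
  have h1 : -37 < x := by nlinarith
  have h2 : x < 37 := by nlinarith
  refine List.mem_map.2 ⟨((x + 36 - r) / 9).toNat, List.mem_range.2 ?_, ?_⟩
  · omega
  · rw [Int.toNat_of_nonneg (by omega)]
    omega

theorem mem_big {r x : ℤ} (hr : 0 < r) (hr' : r < 9) (h : x % 9 = r) (h1 : -127 ≤ x)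
    (h2 : x ≤ 127) : x ∈ big r := by
  refine List.mem_map.2 ⟨((x + 135 - r) / 9).toNat, List.mem_range.2 ?_, ?_⟩
  · omega
  · rw [Int.toNat_of_nonneg (by omega)]
    omega

theorem check_six : ∀ P ∈ small 1, ∀ Q ∈ small 1, ∀ R ∈ small 1, ∀ E ∈ small 5,
    P ≠ 1 → P ≠ -8 → Q ≠ 1 → Q ≠ -8 → R ≠ 1 → R ≠ -8 →
    19 * (2 * (P * Q * R * E) + 2 * Q * R * E + 2 * P * R * E + 2 * P * Q * E - 4 * P * Q * R) ≠
      18 * (P * Q * R * E) := by
  decide +kernel

theorem check_one : ∀ P ∈ small 1, ∀ T ∈ small 2, T ≠ -7 →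
    19 * (2 * (P * T) + 2 * T + 16 * P) ≠ 18 * (P * T) := by
  decide +kernel

theorem check_linear : ∀ T ∈ small 2, ∀ P ∈ small 1, ∀ Q ∈ small 1, ∀ D ∈ small 5, ∀ E ∈ small 5,
    T ≠ -7 →
    19 * (4 * (T * P * Q * D * E) + 16 * P * Q * D * E + 2 * T * Q * D * E + 2 * T * P * D * E -
      4 * T * P * Q * E - 4 * T * P * Q * D) ≠ 18 * (T * P * Q * D * E) := by
  decide +kernel

/-- The predicate checked for the general pattern. -/
def generalOK (T D E : ℤ) : Bool :=
  let Q := -1 - T - D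
  let P := 1 + D - E
  let den := T * Q * P * D * E
  let num := 2 * den + 16 * Q * P * D * E + 4 * T * P * D * E + 2 * T * Q * D * E -
    4 * T * Q * P * E - 4 * T * Q * P * D
  let n := 18 * den / num
  T == -7 || Q == 1 || Q == -8 || P == 1 || P == -8 || num == 0 || 18 * den % num != 0 ||
    n % 9 != 1 || n < 19 || 72 * n < 1 + T ^ 2 + P ^ 2 + 2 * Q ^ 2 + 2 * D ^ 2 + 2 * E ^ 2

theorem check_general : ∀ T ∈ big 2, ∀ D ∈ big 5, ∀ E ∈ big 5, generalOK T D E = true := by
  decide +kernel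

end Cfsg.Agent.SixSym
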