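import Cfsg.Agent.SixSym.Half

/-!
# The action of the normaliser on the Sylow 3-subgroup
-/

set_option autoImplicit false
set_option linter.unusedSectionVars false
set_option linter.style.haveILetI false

namespace Cfsg.Agent.SixSym

open Cfsg Cfsg.Agent Subgroup DihedralGroup
open scoped Classical ComplexConjugate
open Cfsg.Agent.ThreeNine (coord coord_zero coord_mem)

universe u

variable {G : Type u} [Group G] [Finite G]

/-- The hypotheses: a self-centralising Sylow 3-subgroup of order 9 whose normaliser induces a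
dihedral group of order 8 and contains the centralisers of its non-identity elements. -/
structure Setting (S : Subgroup G) : Prop where
  card : Nat.card S = 9
  sylow : ∃ P : Sylow 3 G, (P : Subgroup G) = S
  cent : centralizer (S : Set G) = S
  quot : ∃ π : normalizer (S : Set G) →* DihedralGroup 4, Function.Surjective π ∧
    ∀ n, π n = 1 ↔ (n : G) ∈ S
  cent_le : ∀ x ∈ S, x ≠ 1 → centralizer ({x} : Set G) ≤ normalizer (S : Set G)

variable {S : Subgroup G}

theorem Setting.comm (hS : Setting S) : ∀ a ∈ S, ∀ b ∈ S, Commute a b := fun a ha b hb =>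
  (mem_centralizer_iff.1 ((hS.cent.symm ▸ ha : a ∈ centralizer (S : Set G))) b hb).symm

theorem Setting.mem_of_fix (hS : Setting S) {n : G} (h : ∀ s ∈ S, n * s * n⁻¹ = s) : n ∈ S := by
  rw [← hS.cent]
  exact mem_centralizer_iff.2 fun s hs => (mul_inv_eq_iff_eq_mul.1 (h s hs)).symm

theorem Setting.exp3 (hS : Setting S) : ∀ a ∈ S, a ^ 3 = 1 := by
  intro x hx
  obtain ⟨π, hsur, hker⟩ := hS.quot
  have h9 : orderOf x ∣ 9 := hS.card ▸ Subgroup.orderOf_dvd_natCard _ hx
  by_contra hx3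
  have hord : orderOf x = 9 := by
    rcases (Nat.dvd_prime_pow Nat.prime_three (m := 2)).1 (by simpa using h9) with ⟨i, hi, he⟩
    interval_cases i
    · exact absurd (orderOf_eq_one_iff.1 (by simpa using he)) (fun e => hx3 (by rw [e, one_pow]))
    · exact absurd (orderOf_dvd_iff_pow_eq_one.1 (by simp [he])) hx3
    · simpa using he
  have hgen : zpowers x = S := eq_of_le_of_card_ge (zpowers_le.2 hx) (by
    rw [hS.card, Nat.card_zpowers, hord])
  obtain ⟨m, hm⟩ := hsur (r 1)
  obtain ⟨m', hm'⟩ := hsur (sr 0)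
  have key : ∀ n : normalizer (S : Set G), ∃ k : ℤ, (n : G) * x * (n : G)⁻¹ = x ^ k := fun n => by
    have h1 : (n : G) * x * (n : G)⁻¹ ∈ zpowers x := by
      rw [hgen]; exact (mem_normalizer_iff.1 n.2 x).1 hx
    obtain ⟨k, hk⟩ := mem_zpowers_iff.1 h1
    exact ⟨k, hk.symm⟩
  obtain ⟨k, hk⟩ := key m
  obtain ⟨k', hk'⟩ := key m'
  have h1 : ((m * m' : normalizer (S : Set G)) : G) * x * ((m * m' : normalizer (S : Set G)) : G)⁻¹ =
      ((m' * m : normalizer (S : Set G)) : G) * x * ((m' * m : normalizer (S : Set G)) : G)⁻¹ := by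
    simp only [Subgroup.coe_mul]
    rw [show (m : G) * m' * x * ((m : G) * m')⁻¹ = m * ((m' : G) * x * (m' : G)⁻¹) * (m : G)⁻¹ by
        group, hk', ← conj_zpow, hk,
      show (m' : G) * m * x * ((m' : G) * m)⁻¹ = m' * ((m : G) * x * (m : G)⁻¹) * (m' : G)⁻¹ by
        group, hk, ← conj_zpow, hk', ← zpow_mul, ← zpow_mul, mul_comm]
  have h2 : ((m' * m)⁻¹ * (m * m') : normalizer (S : Set G)).1 ∈ S := by
    refine hS.mem_of_fix fun s hs => ?_
    rw [← hgen] at hs
    obtain ⟨i, rfl⟩ := mem_zpowers_iff.1 hs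
    rw [← conj_zpow]
    congr 1
    simp only [Subgroup.coe_mul, Subgroup.coe_inv] at h1 ⊢
    rw [show ((m' : G) * m)⁻¹ * ((m : G) * m') * x * (((m' : G) * m)⁻¹ * ((m : G) * m'))⁻¹ =
      ((m' : G) * m)⁻¹ * ((m : G) * m' * x * ((m : G) * m')⁻¹) * ((m' : G) * m) by group, h1]
    group
  have h3 := (hker _).2 h2
  rw [map_mul, map_inv, map_mul, map_mul, hm, hm'] at h3
  revert h3
  decide

/-- A quarter turn in coordinates. -/
def rot (p : Fin 3 × Fin 3) : Fin 3 × Fin 3 := (-p.2, p.1)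

/-- An adapted pair of generators with elements inducing a quarter turn and a reflection. -/
structure Frame (S : Subgroup G) (e f ρ σ : G) : Prop where
  he : e ∈ S
  hf : f ∈ S
  ρN : ρ ∈ normalizer (S : Set G)
  σN : σ ∈ normalizer (S : Set G)
  σ2 : σ * σ = 1
  inj : Function.Injective (coord e f)
  actρ : ∀ p, ρ * coord e f p * ρ⁻¹ = coord e f (rot p)
  actσ : ∀ p, σ * coord e f p * σ⁻¹ = coord e f (flipSnd p)
  act : ∀ n ∈ normalizer (S : Set G), ∃ k < 4,
    (∀ p, n * coord e f p * n⁻¹ = coord e f (rot^[k] p)) ∨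
      (∀ p, n * coord e f p * n⁻¹ = coord e f (flipSnd (rot^[k] p)))

theorem coord_conj (e f n : G) (p : Fin 3 × Fin 3) :
    n * coord e f p * n⁻¹ = coord (n * e * n⁻¹) (n * f * n⁻¹) p := by
  simp only [coord, conj_pow]
  group

theorem Setting.exists_frame (hS : Setting S) : ∃ e f ρ σ : G, Frame S e f ρ σ := by
  obtain ⟨π, hsur, hker⟩ := hS.quot
  have hexp := hS.exp3
  have hcomm := hS.comm
  let N := normalizer (S : Set G)
  have hmem : ∀ (n : N) {s : G}, s ∈ S → (n : G) * s * (n : G)⁻¹ ∈ S := fun n s hs =>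
    (mem_normalizer_iff.1 n.2 s).1 hs
  have hsame : ∀ n m : N, π n = π m → ∀ s ∈ S, (n : G) * s * (n : G)⁻¹ = (m : G) * s * (m : G)⁻¹ := by
    intro n m hnm s hs
    have h1 : ((m⁻¹ * n : N) : G) ∈ S := (hker _).1 (by rw [map_mul, map_inv, hnm, inv_mul_cancel])
    simp only [Subgroup.coe_mul, Subgroup.coe_inv] at h1
    calc (n : G) * s * (n : G)⁻¹
        = m * ((m : G)⁻¹ * n * s * ((m : G)⁻¹ * n)⁻¹) * (m : G)⁻¹ := by group
      _ = (m : G) * s * (m : G)⁻¹ := by rw [(hcomm _ h1 _ hs).eq, mul_inv_cancel_right]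
  have hact : ∀ (n m : N) (s : G), ((n * m : N) : G) * s * ((n * m : N) : G)⁻¹ =
      n * ((m : G) * s * (m : G)⁻¹) * (n : G)⁻¹ := fun n m s => by
    rw [Subgroup.coe_mul]; group
  have hone : ∀ n : N, π n = 1 → ∀ s ∈ S, (n : G) * s * (n : G)⁻¹ = s := fun n hn s hs => by
    rw [(hcomm _ ((hker n).1 hn) _ hs).eq, mul_inv_cancel_right]
  obtain ⟨m, hm⟩ := hsur (r 1)
  obtain ⟨w, hw⟩ := hsur (sr 0)
  -- an element acting as a reflection, of order 2
  obtain ⟨t, ht⟩ : ∃ t : N, t = w ^ 9 := ⟨_, rfl⟩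
  have hπt : π t = sr 0 := by rw [ht, map_pow, hw]; decide
  have ht2 : (t : G) * t = 1 := by
    have h1 : ((w ^ 2 : N) : G) ∈ S := (hker _).1 (by rw [map_pow, hw]; decide)
    have h2 := hexp _ h1
    rw [← Subgroup.coe_mul, ht, ← pow_add, show 9 + 9 = 2 * 3 * 3 from rfl, pow_mul, pow_mul,
      Subgroup.coe_pow, Subgroup.coe_pow, h2, one_pow]
  obtain ⟨z, hz⟩ : ∃ z : N, z = m * m := ⟨_, rfl⟩
  have hπz : π z = r 2 := by rw [hz, map_mul, hm]; decide
  -- `z` fixes only `1`
  have hzfix : ∀ u ∈ S, (z : G) * u * (z : G)⁻¹ = u → u = 1 := by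
    intro u hu hzu
    by_contra hu1
    obtain ⟨x₀, hx₀, hx₀'⟩ : ∃ x ∈ S, (z : G) * x * (z : G)⁻¹ ≠ x := by
      by_contra hc
      push Not at hc
      have h1 := (hker z).2 (hS.mem_of_fix hc)
      rw [hπz] at h1
      revert h1
      decide
    set x := ((z : G) * x₀ * (z : G)⁻¹) * x₀⁻¹ with hx
    have hxS : x ∈ S := S.mul_mem (hmem z hx₀) (S.inv_mem hx₀)
    have hzz : (z : G) * ((z : G) * x₀ * (z : G)⁻¹) * (z : G)⁻¹ = x₀ := by
      rw [← hact, hone (z * z) (by rw [map_mul, hπz]; decide) x₀ hx₀]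
    have hzx : (z : G) * x * (z : G)⁻¹ = x⁻¹ := by
      rw [hx, show (z : G) * ((z : G) * x₀ * (z : G)⁻¹ * x₀⁻¹) * (z : G)⁻¹ =
        ((z : G) * ((z : G) * x₀ * (z : G)⁻¹) * (z : G)⁻¹) * ((z : G) * x₀ * (z : G)⁻¹)⁻¹ by group,
        hzz]
      group
    have hx1 : x ≠ 1 := fun e => hx₀' (by rwa [hx, mul_inv_eq_one] at e)
    have hzc : ∀ p, (z : G) * coord u x p * (z : G)⁻¹ = coord u x (p.1, -p.2) := by
      intro p
      rw [coord_conj, hzu, hzx]
      simp only [coord]
      congr 1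
      have h2 : x⁻¹ = x ^ 2 := inv_eq_of_mul_eq_one_right (by rw [← pow_succ', hexp _ hxS])
      rw [h2, ← pow_mul, pow_eq_pow_mod (2 * (p.2 : ℕ)) (hexp _ hxS)]
      congr 1
      revert p
      decide
    have hinj : Function.Injective (coord u x) := by
      intro p q hpq
      have hpq' := congrArg (fun y => (z : G) * y * (z : G)⁻¹) hpq
      simp only [hzc] at hpq'
      simp only [coord] at hpq hpq'
      have hcux : ∀ i j : ℕ, Commute (u ^ i) (x ^ j) := fun i j => (hcomm _ hu _ hxS).pow_pow i j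
      have e1 : u ^ (2 * (p.1 : ℕ)) = u ^ (2 * (q.1 : ℕ)) := by
        have h2 : ∀ j : Fin 3, x ^ (j : ℕ) * x ^ ((-j : Fin 3) : ℕ) = 1 := fun j => by
          rw [← pow_val_add (hexp _ hxS), add_neg_cancel]; simp
        have h3 := congrArg₂ (· * ·) hpq hpq'
        rw [(hcux _ _).symm.mul_mul_mul_comm, (hcux _ _).symm.mul_mul_mul_comm, h2, h2, mul_one,
          mul_one, ← pow_add, ← pow_add, ← two_mul, ← two_mul] at h3
        exact h3
      have o3 : ∀ {y : G}, y ∈ S → y ≠ 1 → orderOf y = 3 := fun hy hy1 =>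
        orderOf_eq_prime (hexp _ hy) hy1
      rw [pow_eq_pow_iff_modEq, o3 hu hu1] at e1
      have ep : p.1 = q.1 := by
        revert e1
        generalize p.1 = i
        generalize q.1 = j
        revert i j
        decide
      rw [ep, mul_right_inj, pow_eq_pow_iff_modEq, o3 hxS hx1] at hpq
      have eq' : p.2 = q.2 := by
        revert hpq
        generalize p.2 = i
        generalize q.2 = j
        revert i j
        decide
      exact Prod.ext ep eq'
    have hbij : Function.Bijective (fun p => (⟨coord u x p, coord_mem hu hxS p⟩ : S)) := by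
      letI := Fintype.ofFinite S
      exact (Fintype.bijective_iff_injective_and_card _).2 ⟨fun p q hpq =>
        hinj (congrArg Subtype.val hpq), by
          rw [← Nat.card_eq_fintype_card, ← Nat.card_eq_fintype_card, hS.card]; simp⟩
    obtain ⟨⟨i, j⟩, hij⟩ := hbij.2 ⟨_, hmem m hxS⟩
    have hij' : coord u x (i, j) = (m : G) * x * (m : G)⁻¹ := congrArg Subtype.val hij
    -- `m x m⁻¹` is inverted by `z`, so lies in `⟨x⟩`
    have hi : i = 0 := by
      have h1 : (z : G) * coord u x (i, j) * (z : G)⁻¹ = (coord u x (i, j))⁻¹ := by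
        rw [hij', ← hact, hsame (z * m) (m * z) (by rw [map_mul, map_mul, hπz, hm]; decide) x hxS,
          hact, hzx]
        group
      rw [hzc] at h1
      have h2 : coord u x (i, -j) * coord u x (i, j) = 1 := by rw [h1, inv_mul_cancel]
      have h3 : coord u x (i + i, 0) = 1 := by
        rw [← h2]
        simp only [coord, pow_val_add (hexp _ hu), Fin.val_zero, pow_zero, mul_one]
        rw [((hcomm _ hu _ hxS).pow_pow (i : ℕ) ((-j : Fin 3) : ℕ)).symm.mul_mul_mul_comm,
          ← pow_val_add (hexp _ hxS), neg_add_cancel]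
        simp
      have h4 := congrArg Prod.fst (hinj (h3.trans (coord_zero u x).symm))
      simp only [Prod.fst_zero] at h4
      revert h4
      generalize i = i'
      revert i'
      decide
    subst hi
    have hxj : (m : G) * x * (m : G)⁻¹ = x ^ (j : ℕ) := by rw [← hij']; simp [coord]
    have h5 : (z : G) * x * (z : G)⁻¹ = coord u x (0, j * j) := by
      rw [hz, hact, hxj, ← conj_pow, hxj, ← pow_mul]
      simp only [coord, Fin.val_zero, pow_zero, one_mul, Fin.val_mul]
      exact pow_eq_pow_mod _ (hexp _ hxS)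
    rw [hzx, show x⁻¹ = coord u x (0, 2) by
      simp [coord]; exact inv_eq_of_mul_eq_one_right (by rw [← pow_succ', hexp _ hxS])] at h5
    have hno : ∀ l : Fin 3, ¬ (2 : Fin 3) = l * l := by decide
    exact hno j (congrArg Prod.snd (hinj h5))
  have hzinv : ∀ u ∈ S, (z : G) * u * (z : G)⁻¹ = u⁻¹ := by
    intro u hu
    refine eq_inv_of_mul_eq_one_right ?_
    refine hzfix _ (S.mul_mem hu (hmem z hu)) ?_
    rw [show (z : G) * (u * ((z : G) * u * (z : G)⁻¹)) * (z : G)⁻¹ =
      ((z : G) * u * (z : G)⁻¹) * ((z : G) * ((z : G) * u * (z : G)⁻¹) * (z : G)⁻¹) by group,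
      ← hact, hone (z * z) (by rw [map_mul, hπz]; decide) u hu]
    exact (hcomm _ (hmem z hu) _ hu).eq
  obtain ⟨e, he, he1, hte⟩ : ∃ e ∈ S, e ≠ 1 ∧ (t : G) * e * (t : G)⁻¹ = e := by
    by_contra hc
    push Not at hc
    have hinv : ∀ u ∈ S, (t : G) * u * (t : G)⁻¹ = (z : G) * u * (z : G)⁻¹ := by
      intro u hu
      rw [hzinv u hu]
      refine eq_inv_of_mul_eq_one_right ?_
      by_contra hne
      refine hc _ (S.mul_mem hu (hmem t hu)) hne ?_
      rw [show (t : G) * (u * ((t : G) * u * (t : G)⁻¹)) * (t : G)⁻¹ =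
        ((t : G) * u * (t : G)⁻¹) * ((t : G) * ((t : G) * u * (t : G)⁻¹) * (t : G)⁻¹) by group,
        ← hact, hone (t * t) (by rw [map_mul, hπt]; decide) u hu]
      exact (hcomm _ (hmem t hu) _ hu).eq
    have h1 : ((z⁻¹ * t : N) : G) ∈ S := by
      refine hS.mem_of_fix fun s hs => ?_
      rw [hact, hinv s hs, ← hact, inv_mul_cancel]
      simp
    have h2 := (hker _).2 h1
    rw [map_mul, map_inv, hπz, hπt] at h2
    revert h2
    decide
  set f := (m : G) * e * (m : G)⁻¹ with hfdef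
  have hf : f ∈ S := hmem m he
  have hmf : (m : G) * f * (m : G)⁻¹ = e⁻¹ := by
    rw [hfdef, ← hact, ← hz, hzinv e he]
  have htf : (t : G) * f * (t : G)⁻¹ = f⁻¹ := by
    rw [hfdef, ← hact, hsame (t * m) (m * (z * t)) (by
      rw [map_mul, map_mul, map_mul, hπt, hm, hπz]; decide) e he, hact, hact, hte, hzinv e he]
    group
  have hf1 : f ≠ 1 := conj_ne_one he1
  have hinv2 : ∀ {y : G}, y ∈ S → y⁻¹ = y ^ 2 := fun hy =>
    inv_eq_of_mul_eq_one_right (by rw [← pow_succ', hexp _ hy])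
  have actm : ∀ p, (m : G) * coord e f p * (m : G)⁻¹ = coord e f (rot p) := by
    intro p
    rw [coord_conj, ← hfdef, hmf]
    simp only [coord, rot]
    rw [((hcomm _ he _ hf).inv_left.pow_pow (p.2 : ℕ) (p.1 : ℕ)).symm.eq, hinv2 he, ← pow_mul,
      pow_eq_pow_mod (2 * (p.2 : ℕ)) (hexp _ he)]
    congr 2
    revert p
    decide
  have actt : ∀ p, (t : G) * coord e f p * (t : G)⁻¹ = coord e f (flipSnd p) := by
    intro p
    rw [coord_conj, hte, htf]
    simp only [coord, flipSnd]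
    rw [hinv2 hf, ← pow_mul, pow_eq_pow_mod (2 * (p.2 : ℕ)) (hexp _ hf)]
    congr 2
    revert p
    decide
  have hinj : Function.Injective (coord e f) := by
    intro p q hpq
    have hpq' := congrArg (fun y => (t : G) * y * (t : G)⁻¹) hpq
    simp only [actt, flipSnd] at hpq'
    simp only [coord] at hpq hpq'
    have hcux : ∀ i j : ℕ, Commute (e ^ i) (f ^ j) := fun i j => (hcomm _ he _ hf).pow_pow i j
    have h2 : ∀ j : Fin 3, f ^ (j : ℕ) * f ^ ((-j : Fin 3) : ℕ) = 1 := fun j => by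
      rw [← pow_val_add (hexp _ hf), add_neg_cancel]; simp
    have h3 := congrArg₂ (· * ·) hpq hpq'
    rw [(hcux _ _).symm.mul_mul_mul_comm, (hcux _ _).symm.mul_mul_mul_comm, h2, h2, mul_one,
      mul_one, ← pow_add, ← pow_add, ← two_mul, ← two_mul, pow_eq_pow_iff_modEq,
      orderOf_eq_prime (hexp _ he) he1] at h3
    have ep : p.1 = q.1 := by
      revert h3
      generalize p.1 = i
      generalize q.1 = j
      revert i j
      decide
    rw [ep, mul_right_inj, pow_eq_pow_iff_modEq, orderOf_eq_prime (hexp _ hf) hf1] at hpq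
    have eq' : p.2 = q.2 := by
      revert hpq
      generalize p.2 = i
      generalize q.2 = j
      revert i j
      decide
    exact Prod.ext ep eq'
  have actpow : ∀ (k : ℕ) p, ((m ^ k : N) : G) * coord e f p * ((m ^ k : N) : G)⁻¹ =
      coord e f (rot^[k] p) := by
    intro k
    induction k with
    | zero => intro p; simp
    | succ k ih =>
      intro p
      rw [pow_succ, hact, actm, ih, Function.iterate_succ_apply]
  refine ⟨e, f, m, t, he, hf, m.2, t.2, ht2, hinj, actm, actt, fun n hn => ?_⟩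
  have hd : ∀ d : DihedralGroup 4, ∃ k < 4, d = r 1 ^ k ∨ d = sr 0 * r 1 ^ k := by decide
  obtain ⟨k, hk4, hk | hk⟩ := hd (π ⟨n, hn⟩)
  · refine ⟨k, hk4, Or.inl fun p => ?_⟩
    rw [← actpow k p]
    exact hsame ⟨n, hn⟩ (m ^ k) (by rw [hk, map_pow, hm]) _ (coord_mem he hf p)
  · refine ⟨k, hk4, Or.inr fun p => ?_⟩
    rw [← actt, ← actpow k p, ← hact]
    exact hsame ⟨n, hn⟩ (t * m ^ k) (by rw [hk, map_mul, map_pow, hm, hπt]) _ (coord_mem he hf p)

end Cfsg.Agent.SixSym
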