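import Cfsg.Agent.SixSym.Local
import Cfsg.Agent.CharExt.DetChar
import Cfsg.Agent.S0840

/-!
# The column data at one of the two classes of elements of order 3
-/

set_option autoImplicit false
set_option linter.unusedSectionVars false
set_option linter.style.haveILetI false

namespace Cfsg.Agent.SixSym

open Cfsg Cfsg.Agent Subgroup
open scoped Classical ComplexConjugate
open Cfsg.Agent.ThreeNine (coord coord_zero coord_mem value_three)

universe u

variable {G : Type u} [Group G] [Fintype G] {S : Subgroup G}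

/-- The coordinates of the class of `e`. -/
def RA (r : Fin 3 × Fin 3) : Prop := r = (1, 0) ∨ r = (2, 0) ∨ r = (0, 1) ∨ r = (0, 2)

/-- The coordinates of the class of `e * f`. -/
def RB (r : Fin 3 × Fin 3) : Prop := r = (1, 1) ∨ r = (2, 2) ∨ r = (1, 2) ∨ r = (2, 1)

instance : DecidablePred RA := fun r =>
  inferInstanceAs (Decidable (r = (1, 0) ∨ r = (2, 0) ∨ r = (0, 1) ∨ r = (0, 2)))

instance : DecidablePred RB := fun r =>
  inferInstanceAs (Decidable (r = (1, 1) ∨ r = (2, 2) ∨ r = (1, 2) ∨ r = (2, 1)))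

/-- An element `e` of order 3, an involution `t` centralising it and inverting `f`. -/
structure Half (S : Subgroup G) (e f t : G) : Prop where
  he : e ∈ S
  hf : f ∈ S
  bij : Function.Bijective (fun p => (⟨coord e f p, coord_mem he hf p⟩ : S))
  t2 : t * t = 1
  te : t * e * t⁻¹ = e
  tf : t * f * t⁻¹ = f⁻¹
  reve : ∃ r, r * e * r⁻¹ = e⁻¹ ∧ r * t * r⁻¹ = t
  inv : ∀ s ∈ S, IsConj s s⁻¹
  fusA : ∀ p, IsConj (coord e f (1, 0)) (coord e f p) ↔ RA p
  fusB : ∀ p, IsConj (coord e f (1, 1)) (coord e f p) ↔ RB p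

/-- The action of `t` on coordinates. -/
def flipSnd (p : Fin 3 × Fin 3) : Fin 3 × Fin 3 := (p.1, -p.2)

variable {e f t : G}

theorem coord_fst (e f : G) : coord e f (1, 0) = e := by simp [coord]

theorem coord_snd (e f : G) : coord e f (0, 1) = f := by simp [coord]

theorem coord_diag (e f : G) : coord e f (1, 1) = e * f := by simp [coord]

theorem Half.injective (H : Half S e f t) : Function.Injective (coord e f) :=
  fun _ _ hpq => H.bij.1 (Subtype.ext hpq)

theorem Half.coord_ne_one (H : Half S e f t) {p : Fin 3 × Fin 3} (hp : p ≠ 0) :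
    coord e f p ≠ 1 := fun e' => hp (H.injective (e'.trans (coord_zero e f).symm))

theorem Half.e_ne_one (H : Half S e f t) : e ≠ 1 := by
  simpa [coord_fst] using H.coord_ne_one (p := (1, 0)) (by decide)

theorem Half.f_ne_one (H : Half S e f t) : f ≠ 1 := by
  simpa [coord_snd] using H.coord_ne_one (p := (0, 1)) (by decide)

theorem Half.t_inv (H : Half S e f t) : t⁻¹ = t := inv_eq_of_mul_eq_one_right H.t2

theorem Half.t_not_mem (h : Eighteen S) (H : Half S e f t) : t ∉ S := by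
  intro ht
  have h1 := H.tf
  rw [(h.comm _ ht _ H.hf).eq, mul_inv_cancel_right] at h1
  have h3 := h.exp3 _ H.hf
  have : f * f = 1 := by nth_rewrite 2 [h1]; exact mul_inv_cancel f
  rw [pow_succ, pow_two, this, one_mul] at h3
  exact H.f_ne_one h3

theorem Half.flip (h : Eighteen S) (H : Half S e f t) (p : Fin 3 × Fin 3) :
    t * coord e f p * t⁻¹ = coord e f (flipSnd p) := by
  rw [show coord e f p = e ^ (p.1 : ℕ) * f ^ (p.2 : ℕ) from rfl,
    show t * (e ^ (p.1 : ℕ) * f ^ (p.2 : ℕ)) * t⁻¹ =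
      (t * e ^ (p.1 : ℕ) * t⁻¹) * (t * f ^ (p.2 : ℕ) * t⁻¹) by group,
    ← conj_pow, ← conj_pow, H.te, H.tf]
  show _ = e ^ (p.1 : ℕ) * f ^ ((-p.2 : Fin 3) : ℕ)
  congr 1
  have h2 : f⁻¹ = f ^ 2 := inv_eq_of_mul_eq_one_right (by rw [← pow_succ', h.exp3 _ H.hf])
  rw [h2, ← pow_mul, pow_eq_pow_mod (2 * (p.2 : ℕ)) (h.exp3 _ H.hf)]
  congr 1
  have h3 := p.2.isLt
  rw [Fin.val_neg]
  split_ifs with h0
  · simp [h0]
  · have h4 : (p.2 : ℕ) ≠ 0 := fun e' => h0 (Fin.ext e')
    omega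

/-- The elements of the centraliser of `e`. -/
theorem Half.mem_centralizer (h : Eighteen S) (H : Half S e f t) (q : (Fin 3 × Fin 3) × Fin 2) :
    coord e f q.1 * t ^ (q.2 : ℕ) ∈ centralizer ({e} : Set G) := by
  refine mul_mem (mem_centralizer_singleton_iff.2 ?_) (pow_mem (mem_centralizer_singleton_iff.2 ?_) _)
  · exact (h.comm _ (coord_mem H.he H.hf _) _ H.he).eq
  · exact mul_inv_eq_iff_eq_mul.1 H.te

/-- The parametrisation of the centraliser of `e`. -/
noncomputable def Half.param (h : Eighteen S) (H : Half S e f t) :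
    (Fin 3 × Fin 3) × Fin 2 ≃ centralizer ({e} : Set G) :=
  Equiv.ofBijective (fun q => ⟨_, H.mem_centralizer h q⟩) (by
    have hinj : Function.Injective
        (fun q => (⟨_, H.mem_centralizer h q⟩ : centralizer ({e} : Set G))) := by
      rintro ⟨p, k⟩ ⟨q, l⟩ hpq
      have h1 : coord e f p * t ^ (k : ℕ) = coord e f q * t ^ (l : ℕ) := congrArg Subtype.val hpq
      have key : ∀ p q, coord e f p * t ≠ coord e f q := fun p q h2 => H.t_not_mem h (by
        rw [show t = (coord e f p)⁻¹ * coord e f q by rw [← h2, inv_mul_cancel_left]]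
        exact S.mul_mem (S.inv_mem (coord_mem H.he H.hf _)) (coord_mem H.he H.hf _))
      fin_cases k <;> fin_cases l <;> simp at h1 ⊢
      · exact H.injective h1
      · exact key q p h1.symm
      · exact key p q h1
      · exact H.injective h1
    letI := Fintype.ofFinite (centralizer ({e} : Set G))
    exact (Fintype.bijective_iff_injective_and_card _).2 ⟨hinj, by
      rw [← Nat.card_eq_fintype_card, ← Nat.card_eq_fintype_card, h.cent_card e H.he H.e_ne_one]
      simp⟩)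

theorem Half.param_apply (h : Eighteen S) (H : Half S e f t) (q : (Fin 3 × Fin 3) × Fin 2) :
    ((H.param h q : centralizer ({e} : Set G)) : G) = coord e f q.1 * t ^ (q.2 : ℕ) := rfl

theorem pow_val_add {M : Type*} [Monoid M] {m : ℕ} {x : M} (hx : x ^ m = 1) (i j : Fin m) :
    x ^ ((i + j : Fin m) : ℕ) = x ^ (i : ℕ) * x ^ (j : ℕ) := by
  rw [Fin.val_add, ← pow_add]
  exact (pow_eq_pow_mod _ hx).symm

theorem Half.mul_formula (h : Eighteen S) (H : Half S e f t) (p q : Fin 3 × Fin 3) (k l : Fin 2) :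
    coord e f p * t ^ (k : ℕ) * (coord e f q * t ^ (l : ℕ)) =
      coord e f (p + (if k = 0 then q else flipSnd q)) * t ^ ((k + l : Fin 2) : ℕ) := by
  rw [pow_val_add (by rw [pow_two, H.t2]), h.coord_add H.he H.hf]
  fin_cases k
  · simp [mul_assoc]
  · simp only [Fin.mk_one, Fin.isValue, Fin.val_one, pow_one, one_ne_zero, if_false]
    rw [← H.flip h q]
    group

/-- The linear character of the centraliser of `e` sending `e` to `ζ` and `t` to `η`. -/
noncomputable def Half.lin (h : Eighteen S) (H : Half S e f t) (ζ η : ℂˣ) (hζ : ζ ^ 3 = 1)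
    (hη : η ^ 2 = 1) : centralizer ({e} : Set G) →* ℂˣ :=
  MonoidHom.mk' (fun x => ζ ^ (((H.param h).symm x).1.1 : ℕ) * η ^ (((H.param h).symm x).2 : ℕ))
    (fun x y => by
      obtain ⟨⟨p, k⟩, rfl⟩ := (H.param h).surjective x
      obtain ⟨⟨q, l⟩, rfl⟩ := (H.param h).surjective y
      have e1 : H.param h (p, k) * H.param h (q, l) =
          H.param h (p + (if k = 0 then q else flipSnd q), k + l) :=
        Subtype.ext (H.mul_formula h p q k l)
      simp only [e1, Equiv.symm_apply_apply]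
      have e2 : (p + (if k = 0 then q else flipSnd q)).1 = p.1 + q.1 := by
        split_ifs <;> rfl
      rw [e2, pow_val_add hζ, pow_val_add hη]
      exact mul_mul_mul_comm _ _ _ _)

/-- Conjugating by a power of `f` clears the second coordinate. -/
theorem Half.conj_clear (h : Eighteen S) (H : Half S e f t) (i j : Fin 3) :
    IsConj (coord e f (i, j) * t) (coord e f (i, 0) * t) := by
  refine isConj_iff.2 ⟨coord e f (0, j), ?_⟩
  have h1 : t * (coord e f (0, j))⁻¹ = coord e f (0, j) * t := by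
    rw [← mul_inv_eq_iff_eq_mul, ← h.coord_neg H.he H.hf, H.flip h]
    simp [flipSnd]
  rw [show coord e f (0, j) * (coord e f (i, j) * t) * (coord e f (0, j))⁻¹ =
    coord e f (0, j) * coord e f (i, j) * (t * (coord e f (0, j))⁻¹) by group, h1, ← mul_assoc,
    ← h.coord_add H.he H.hf, ← h.coord_add H.he H.hf]
  congr 2
  clear h1
  revert i j
  decide

theorem Half.conj_et (h : Eighteen S) (H : Half S e f t) :
    IsConj (e * t) (coord e f (2, 0) * t) := by
  obtain ⟨r, hr1, hr2⟩ := H.reve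
  refine isConj_iff.2 ⟨r, ?_⟩
  rw [show r * (e * t) * r⁻¹ = (r * e * r⁻¹) * (r * t * r⁻¹) by group, hr1, hr2]
  congr 1
  rw [show coord e f (2, 0) = e ^ 2 by simp [coord]]
  exact inv_eq_of_mul_eq_one_right (by rw [← pow_succ', h.exp3 _ H.he])

theorem Half.values (h : Eighteen S) (H : Half S e f t) (χ : IrrCharacter G) :
    ∃ (d : ℕ) (a b g τ : ℤ), 0 < d ∧ (χ : G → ℂ) 1 = d ∧ (χ : G → ℂ) e = a ∧
      (χ : G → ℂ) (e * f) = b ∧ (χ : G → ℂ) (e * t) = g ∧ (χ : G → ℂ) t = τ ∧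
      (a - b) % 3 = 0 ∧ ((d : ℤ) + 4 * a + 4 * b) % 9 = 0 ∧ 0 ≤ (d : ℤ) + 4 * a + 4 * b ∧
      0 ≤ (d : ℤ) + a - 2 * b ∧ (g - a) % 2 = 0 ∧
      (d = 8 → a = -1 → b = -1 → g * g = 1 ∧ τ = -2 * g) := by
  obtain ⟨d, hd0, hd⟩ := Char.irr_one_pos χ.2
  have hχ := Char.isCharacter_of_irr χ.2
  have hcl : ∀ {x y : G}, IsConj x y → (χ : G → ℂ) y = (χ : G → ℂ) x := fun hxy =>
    (Char.isClassFunction_eq_of_isConj (Char.irr_isClassFunction χ.2) hxy).symm
  have he3 : e ^ 3 = 1 := h.exp3 _ H.he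
  have hef3 : (e * f) ^ 3 = 1 := h.exp3 _ (S.mul_mem H.he H.hf)
  obtain ⟨a, ha, hamod⟩ := value_three hχ he3 (h.real H.inv he3) hd
  obtain ⟨b, hb, hbmod⟩ := value_three hχ hef3 (h.real H.inv hef3) hd
  set T := (χ : G → ℂ) t with hT
  set Γ := (χ : G → ℂ) (e * t) with hΓ
  have hA : ∀ p, RA p → (χ : G → ℂ) (coord e f p) = a := fun p hp => by
    rw [hcl ((H.fusA p).2 hp), coord_fst, ha]
  have hB : ∀ p, RB p → (χ : G → ℂ) (coord e f p) = b := fun p hp => by
    rw [hcl ((H.fusB p).2 hp), coord_diag, hb]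
  have hinner : ∀ (ζ η : ℂˣ) (hζ : ζ ^ 3 = 1) (hη : η ^ 2 = 1), ∃ m : ℕ, 18 * (m : ℂ) =
      ((d : ℂ) + 2 * a + conj (η : ℂ) * (3 * T)) +
        (conj (ζ : ℂ) + conj (ζ : ℂ) ^ 2) * ((a : ℂ) + 2 * b + conj (η : ℂ) * (3 * Γ)) := by
    intro ζ η hζ hη
    letI := Fintype.ofFinite (centralizer ({e} : Set G))
    obtain ⟨m, hm⟩ := Char.isCharacter_classInner_nat
      (Char.isCharacter_restrict hχ (centralizer ({e} : Set G)))
      ⟨_, Char.isIrrCharacter_monoidHom (H.lin h ζ η hζ hη)⟩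
    refine ⟨m, ?_⟩
    rw [classInner, h.cent_card e H.he H.e_ne_one,
      ← Equiv.sum_comp (H.param h)] at hm
    simp only [Half.lin, MonoidHom.mk'_apply, Equiv.symm_apply_apply, H.param_apply h,
      Units.val_mul, Units.val_pow_eq_pow_val, map_mul, map_pow] at hm
    simp only [Fintype.sum_prod_type, Fin.sum_univ_three, Fin.sum_univ_two] at hm
    have c0 : ∀ j, (χ : G → ℂ) (coord e f (0, j) * t) = T := fun j => by
      rw [← hcl (H.conj_clear h 0 j)]
      simp [coord, hT]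
    have c1 : ∀ j, (χ : G → ℂ) (coord e f (1, j) * t) = Γ := fun j => by
      rw [← hcl (H.conj_clear h 1 j)]
      simp [coord, hΓ]
    have c2 : ∀ j, (χ : G → ℂ) (coord e f (2, j) * t) = Γ := fun j => by
      rw [← hcl (H.conj_clear h 2 j), hcl (H.conj_et h)]
    have v0 : (χ : G → ℂ) (coord e f (0, 0)) = d := by
      rw [show ((0, 0) : Fin 3 × Fin 3) = 0 from rfl, coord_zero, hd]
    simp only [Fin.val_zero, Fin.val_one, Fin.val_two, pow_zero, pow_one, one_mul, mul_one,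
      c0, c1, c2, v0, hA (1, 0) (by decide), hA (2, 0) (by decide), hA (0, 1) (by decide),
      hA (0, 2) (by decide), hB (1, 1) (by decide), hB (2, 2) (by decide), hB (1, 2) (by decide),
      hB (2, 1) (by decide)] at hm
    push_cast at hm
    rw [inv_mul_eq_iff_eq_mul₀ (by norm_num : (18 : ℂ) ≠ 0)] at hm
    linear_combination -hm
  obtain ⟨ω, hω⟩ : ∃ ω : ℂ, IsPrimitiveRoot ω 3 := ⟨_, Complex.isPrimitiveRoot_exp 3 (by norm_num)⟩
  have hω0 : ω ≠ 0 := hω.ne_zero (by norm_num)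
  let ζ : ℂˣ := Units.mk0 ω hω0
  have hζ : ζ ^ 3 = 1 := Units.ext (by simpa [ζ] using hω.pow_eq_one)
  have hsum : conj (ζ : ℂ) + conj (ζ : ℂ) ^ 2 = -1 := by
    have h1 : ω + ω ^ 2 = -1 := by
      have := hω.geom_sum_eq_zero (by norm_num)
      simp [Finset.sum_range_succ] at this
      linear_combination this
    rw [← map_pow, ← map_add, show (ζ : ℂ) + (ζ : ℂ) ^ 2 = -1 from h1, map_neg, map_one]
  obtain ⟨A, hA'⟩ := hinner 1 1 (one_pow 3) (one_pow 2)
  obtain ⟨B, hB'⟩ := hinner 1 (-1) (one_pow 3) (by simp)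
  obtain ⟨C, hC'⟩ := hinner ζ 1 hζ (one_pow 2)
  obtain ⟨D, hD'⟩ := hinner ζ (-1) hζ (by simp)
  rw [hsum] at hC' hD'
  simp only [Units.val_one, Units.val_neg, map_one, map_neg, one_pow] at hA' hB' hC' hD'
  have hg : Γ = (((A : ℤ) - B - C + D : ℤ) : ℂ) := by
    push_cast; linear_combination (-1 / 18 : ℂ) * hA' + (1 / 18 : ℂ) * hB' + (1 / 18 : ℂ) * hC' +
      (-1 / 18 : ℂ) * hD'
  have hτ : T = (((A : ℤ) - B + 2 * C - 2 * D : ℤ) : ℂ) := by
    push_cast; linear_combination (-1 / 18 : ℂ) * hA' + (1 / 18 : ℂ) * hB' + (-2 / 18 : ℂ) * hC' +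
      (2 / 18 : ℂ) * hD'
  have e1 : 9 * ((A : ℤ) + B) = d + 4 * a + 4 * b := by
    exact_mod_cast (by push_cast; linear_combination (1 / 2 : ℂ) * hA' + (1 / 2 : ℂ) * hB' :
      ((9 * ((A : ℤ) + B) : ℤ) : ℂ) = (((d : ℤ) + 4 * a + 4 * b : ℤ) : ℂ))
  have e2 : 9 * ((C : ℤ) + D) = d + a - 2 * b := by
    exact_mod_cast (by push_cast; linear_combination (1 / 2 : ℂ) * hC' + (1 / 2 : ℂ) * hD' :
      ((9 * ((C : ℤ) + D) : ℤ) : ℂ) = (((d : ℤ) + a - 2 * b : ℤ) : ℂ))
  refine ⟨d, a, b, _, _, hd0, hd, ha, hb, hg, hτ, by omega, by omega, by omega, by omega,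
    by omega, fun h8 ha8 hb8 => ?_⟩
  have hA0 : A = 0 := by omega
  have hB0 : B = 0 := by omega
  rcases (show C = 1 ∧ D = 0 ∨ C = 0 ∧ D = 1 by omega) with ⟨rfl, rfl⟩ | ⟨rfl, rfl⟩ <;>
    subst hA0 <;> subst hB0 <;> norm_num

theorem Half.cent_et (h : Eighteen S) (H : Half S e f t) :
    Nat.card (centralizer ({e * t} : Set G)) = 6 := by
  have hc : Commute e t := (mul_inv_eq_iff_eq_mul.1 H.te).symm
  have ht2 : t ^ 2 = 1 := by rw [pow_two, H.t2]
  have he3 := h.exp3 _ H.he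
  have h4 : (e * t) ^ 4 = e := by
    rw [hc.mul_pow, show 4 = 3 + 1 from rfl, pow_succ, he3, one_mul,
      show 3 + 1 = 2 * 2 from rfl, pow_mul, ht2, one_pow, mul_one]
  have h3' : (e * t) ^ 3 = t := by
    rw [hc.mul_pow, he3, one_mul, pow_succ, ht2, one_mul]
  have hmem : ∀ q : (Fin 3 × Fin 3) × Fin 2,
      coord e f q.1 * t ^ (q.2 : ℕ) ∈ centralizer ({e * t} : Set G) ↔ q.1.2 = 0 := by
    intro q
    rw [mem_centralizer_singleton_iff]
    have hce : Commute (coord e f q.1 * t ^ (q.2 : ℕ)) e :=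
      mem_centralizer_singleton_iff.1 (H.mem_centralizer h q)
    constructor
    · intro hx
      have h1 : Commute (coord e f q.1 * t ^ (q.2 : ℕ)) t := by
        have h0 := Commute.pow_right hx 3
        rwa [h3'] at h0
      have h2 : Commute (coord e f q.1) t := by
        have := h1.mul_left ((Commute.pow_self t (q.2 : ℕ)).inv_left)
        rwa [mul_inv_cancel_right] at this
      have h5 := H.flip h q.1
      rw [← h2.eq, mul_inv_cancel_right] at h5
      have h6 := congrArg Prod.snd (H.injective h5)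
      simp only [flipSnd] at h6
      revert h6
      generalize q.1.2 = j
      revert j
      decide
    · intro hq
      have h2 : Commute (coord e f q.1) t := by
        have h5 := H.flip h q.1
        rw [show flipSnd q.1 = q.1 by
          rcases q with ⟨⟨i, j⟩, k⟩
          simp only at hq
          simp [flipSnd, hq]] at h5
        exact (mul_inv_eq_iff_eq_mul.1 h5).symm
      exact (hce.mul_right (h2.mul_left (Commute.pow_self t _))).eq
  let emb : {q : (Fin 3 × Fin 3) × Fin 2 // q.1.2 = 0} → centralizer ({e * t} : Set G) :=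
    fun q => ⟨_, (hmem q.1).2 q.2⟩
  rw [← Nat.card_congr (Equiv.ofBijective emb ⟨fun q q' hq => ?_, fun x => ?_⟩)]
  · rw [Nat.card_eq_fintype_card]; decide
  · have h0 : ((emb q : centralizer ({e * t} : Set G)) : G) = emb q' := congrArg Subtype.val hq
    exact Subtype.ext ((H.param h).injective (Subtype.ext h0))
  · have hx : (x : G) ∈ centralizer ({e} : Set G) := by
      have h0 := Commute.pow_right (mem_centralizer_singleton_iff.1 x.2 : Commute (x : G) (e * t)) 4
      rw [h4] at h0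
      exact mem_centralizer_singleton_iff.2 h0.eq
    obtain ⟨q, hq⟩ := (H.param h).surjective ⟨x, hx⟩
    have hq' : coord e f q.1 * t ^ (q.2 : ℕ) = (x : G) := congrArg Subtype.val hq
    exact ⟨⟨q, (hmem q).1 (hq'.symm ▸ x.2)⟩, Subtype.ext hq'⟩

theorem Half.not_conj_et (h : Eighteen S) (H : Half S e f t) {x : G} (hx : x ^ 3 = 1) :
    ¬ IsConj x (e * t) := by
  intro hc
  obtain ⟨g, hg⟩ := isConj_iff.1 hc
  have h1 : (e * t) ^ 3 = 1 := by rw [← hg, conj_pow, hx, mul_one, mul_inv_cancel]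
  have hc' : Commute e t := (mul_inv_eq_iff_eq_mul.1 H.te).symm
  rw [hc'.mul_pow, h.exp3 _ H.he, one_mul, pow_succ, pow_two, H.t2, one_mul] at h1
  exact H.t_not_mem h (h1 ▸ S.one_mem)

/-- The column equations at `e`, `e * f` and `e * t`. -/
theorem Half.columns (h : Eighteen S) (H : Half S e f t) (d : IrrCharacter G → ℕ)
    (a b g : IrrCharacter G → ℤ) (hd : ∀ χ : IrrCharacter G, (χ : G → ℂ) 1 = d χ)
    (ha : ∀ χ : IrrCharacter G, (χ : G → ℂ) e = a χ)
    (hb : ∀ χ : IrrCharacter G, (χ : G → ℂ) (e * f) = b χ)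
    (hg : ∀ χ : IrrCharacter G, (χ : G → ℂ) (e * t) = g χ) :
    ∑ χ, a χ * a χ = 18 ∧ ∑ χ, b χ * b χ = 18 ∧ ∑ χ, a χ * b χ = 0 ∧ ∑ χ, g χ * g χ = 6 ∧
      ∑ χ, a χ * g χ = 0 ∧ ∑ χ, b χ * g χ = 0 ∧ ∑ χ, (d χ : ℤ) * a χ = 0 ∧
      ∑ χ, (d χ : ℤ) * g χ = 0 ∧
      (Nat.card G : ℝ) * ∑ χ, (a χ : ℝ) ^ 2 * (b χ : ℝ) / (d χ : ℝ) = 648 := by
  have hef : e * f ∈ S := S.mul_mem H.he H.hf
  have hef1 : e * f ≠ 1 := coord_diag e f ▸ H.coord_ne_one (by decide)
  have nab : ¬ IsConj e (e * f) := by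
    rw [← coord_diag e f]
    nth_rewrite 1 [← coord_fst e f]
    rw [H.fusA]
    decide
  have col : ∀ (x y : G) (v w : IrrCharacter G → ℤ) (c : ℕ),
      (∀ χ : IrrCharacter G, (χ : G → ℂ) x = v χ) → (∀ χ : IrrCharacter G, (χ : G → ℂ) y = w χ) →
      (if IsConj x y then Nat.card (centralizer ({x} : Set G)) else 0) = c →
      ∑ χ, v χ * w χ = (c : ℤ) := by
    intro x y v w c hv hw hc
    have h1 := Char.sum_irr_mul_conj x y
    simp only [hv, hw, map_intCast] at h1
    rw [← hc]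
    split_ifs at h1 ⊢ <;> exact_mod_cast h1
  have deg : ∀ (x : G) (v : IrrCharacter G → ℤ), x ≠ 1 →
      (∀ χ : IrrCharacter G, (χ : G → ℂ) x = v χ) → ∑ χ, (d χ : ℤ) * v χ = 0 := by
    intro x v hx hv
    have h1 := Char.sum_irr_degree_mul x
    rw [if_neg hx] at h1
    simp only [hv, hd] at h1
    exact_mod_cast h1
  have het1 : e * t ≠ 1 := fun e' =>
    H.not_conj_et h (x := 1) (one_pow 3) (e' ▸ IsConj.refl _)
  refine ⟨?_, ?_, ?_, ?_, ?_, ?_, deg e a H.e_ne_one ha, deg (e * t) g het1 hg, ?_⟩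
  · exact col e e a a 18 ha ha (by rw [if_pos (IsConj.refl _), h.cent_card e H.he H.e_ne_one])
  · exact col _ _ b b 18 hb hb (by rw [if_pos (IsConj.refl _), h.cent_card _ hef hef1])
  · exact col _ _ a b 0 ha hb (if_neg nab)
  · exact col _ _ g g 6 hg hg (by rw [if_pos (IsConj.refl _), H.cent_et h])
  · exact col _ _ a g 0 ha hg (if_neg (H.not_conj_et h (h.exp3 _ H.he)))
  · exact col _ _ b g 0 hb hg (if_neg (H.not_conj_et h (h.exp3 _ hef)))
  · have h1 := Cfsg.Agent.S0840.result e e (e * f)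
    have hcount := h.card_pairs H.he H.hf H.bij H.inv (1, 0) (1, 1) (by decide) RA H.fusA
      (by decide)
    rw [show (Finset.univ.filter fun q : (Fin 3 × Fin 3) × (Fin 3 × Fin 3) =>
      RA q.1 ∧ RA q.2 ∧ q.1 + q.2 = (1, 1)).card = 2 by decide, coord_fst, coord_diag] at hcount
    rw [hcount, finsum_eq_sum_of_fintype] at h1
    simp only [ha, hb, hd, map_intCast] at h1
    have hcl := h.card_class H.he H.e_ne_one
    set K := Nat.card {x : G // IsConj e x}
    haveI : Nonempty {x : G // IsConj e x} := ⟨⟨e, IsConj.refl _⟩⟩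
    have hK : (K : ℂ) ≠ 0 := Nat.cast_ne_zero.2 Nat.card_pos.ne'
    rw [← hcl] at h1 ⊢
    have h2 : (((18 * K : ℕ) : ℂ)) * ∑ χ : IrrCharacter G,
        (a χ : ℂ) ^ 2 * (b χ : ℂ) / (d χ : ℂ) = 648 := by
      have h3 : ∑ χ : IrrCharacter G, (a χ : ℂ) * (a χ : ℂ) * (b χ : ℂ) / (d χ : ℂ) =
          ∑ χ : IrrCharacter G, (a χ : ℂ) ^ 2 * (b χ : ℂ) / (d χ : ℂ) :=
        Finset.sum_congr rfl fun χ _ => by ring
      rw [h3] at h1
      push_cast at h1 ⊢
      field_simp at h1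
      linear_combination (-18 : ℂ) * h1
    apply Complex.ofReal_injective
    push_cast
    push_cast at h2
    exact h2

/-- The determinant of an involution. -/
theorem detChar_involution {χ : G → ℂ} (hχ : IsCharacter G χ) {x : G} (hx : x ^ 2 = 1) {d : ℕ}
    (hd : χ 1 = d) {τ : ℤ} (hτ : χ x = τ) :
    ∃ k : ℕ, (d : ℤ) - τ = 2 * (k : ℤ) ∧ Cfsg.detChar χ x = (-1) ^ k := by
  obtain ⟨n, ρ, rfl⟩ := hχ
  obtain ⟨c, ε, hc, hε⟩ := Char.exists_eigenbasis ρ x
  have hpm : ∀ i, ε i = 1 ∨ ε i = -1 := fun i => sq_eq_one_iff.1 (by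
    obtain ⟨m, hm⟩ := orderOf_dvd_of_pow_eq_one hx
    rw [hm, pow_mul, hε i, one_pow])
  set k := (Finset.univ.filter fun i => ε i = -1).card with hk
  have hprod : ∏ i, ε i = (-1) ^ k := by
    rw [← Finset.prod_filter_mul_prod_filter_not Finset.univ (fun i => ε i = -1),
      Finset.prod_congr rfl (fun i hi => (Finset.mem_filter.1 hi).2),
      Finset.prod_eq_one (fun i hi => (hpm i).resolve_right (Finset.mem_filter.1 hi).2), mul_one,
      Finset.prod_const]
  refine ⟨k, ?_, ?_⟩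
  · have h1 := Char.character_pow_eq_sum ρ hc 1
    simp only [pow_one] at h1
    rw [hτ, ← Finset.sum_filter_add_sum_filter_not Finset.univ (fun i => ε i = -1),
      Finset.sum_congr rfl (fun i hi => (Finset.mem_filter.1 hi).2),
      Finset.sum_congr rfl (fun i hi => (hpm i).resolve_right (Finset.mem_filter.1 hi).2),
      Finset.sum_const, Finset.sum_const, ← hk, nsmul_eq_mul, nsmul_eq_mul, mul_one] at h1
    have h2 := Finset.card_filter_add_card_filter_not (s := Finset.univ) (fun i => ε i = -1)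
    rw [Finset.card_univ, Fintype.card_fin, ← hk] at h2
    rw [ρ.char_one, Nat.cast_inj] at hd
    replace h2 := h2.trans hd
    have h3 : ((τ : ℤ) : ℂ) = ((-(k : ℤ) + ((Finset.univ.filter fun i => ¬ ε i = -1).card : ℤ) : ℤ) :
        ℂ) := by
      push_cast; linear_combination h1
    have := Int.cast_inj.1 h3
    omega
  · rw [CharExt.detChar_eq ρ rfl, ← hprod, ← LinearMap.det_toMatrix c, ← Matrix.det_diagonal]
    congr 1
    ext i j
    rw [LinearMap.toMatrix_apply, hc j, map_smul, Module.Basis.repr_self]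
    by_cases hij : i = j
    · subst hij; simp
    · simp [hij, Ne.symm hij]

end Cfsg.Agent.SixSym
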