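import Cfsg.Agent.ThreeNine.Setup

/-!
# A Sylow 3-subgroup of order 9 with centralisers of order 18 inside its normaliser
-/

set_option autoImplicit false
set_option linter.unusedSectionVars false

namespace Cfsg.Agent.SixSym

open Cfsg Cfsg.Agent Subgroup
open scoped Classical ComplexConjugate
open Cfsg.Agent.ThreeNine (coord coord_zero coord_mem inv_pow_three)

universe u

variable {G : Type u} [Group G] [Finite G]

/-- `S` is a Sylow 3-subgroup, elementary of order 9; the centraliser of a non-identity element of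
it has order 18 and normalises it. -/
structure Eighteen (S : Subgroup G) : Prop where
  card : Nat.card S = 9
  exp3 : ∀ a ∈ S, a ^ 3 = 1
  comm : ∀ a ∈ S, ∀ b ∈ S, Commute a b
  sylow : ∃ P : Sylow 3 G, (P : Subgroup G) = S
  cent_le : ∀ s ∈ S, s ≠ 1 → centralizer ({s} : Set G) ≤ normalizer (S : Set G)
  cent_card : ∀ s ∈ S, s ≠ 1 → Nat.card (centralizer ({s} : Set G)) = 18

variable {S : Subgroup G}

theorem isPGroup_zpowers_pow {x : G} {k : ℕ} (hx : x ^ (3 ^ k) = 1) :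
    IsPGroup 3 (zpowers x) := by
  rintro ⟨y, hy⟩
  obtain ⟨i, rfl⟩ := mem_zpowers_iff.1 hy
  refine ⟨k, Subtype.ext ?_⟩
  show (x ^ i) ^ (3 ^ k) = 1
  rw [← zpow_natCast (x ^ i), zpow_comm, zpow_natCast, hx, one_zpow]

theorem conj_ne_one {x g : G} (hx : x ≠ 1) : g * x * g⁻¹ ≠ 1 := fun e => hx (by
  rw [mul_inv_eq_one] at e
  exact mul_left_cancel (e.trans (mul_one g).symm))

theorem Eighteen.mem_of_pow (h : Eighteen S) {y : G} {k : ℕ}
    (hy : y ∈ normalizer (S : Set G)) (hk : y ^ (3 ^ k) = 1) : y ∈ S := by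
  haveI : Fact (Nat.Prime 3) := ⟨Nat.prime_three⟩
  obtain ⟨P, hP⟩ := h.sylow
  have hp := (hP ▸ P.isPGroup').to_sup_of_normal_left' (isPGroup_zpowers_pow hk) (zpowers_le.2 hy)
  have := P.is_maximal' hp (hP ▸ le_sup_left)
  rw [← hP, ← this]
  exact mem_sup_right (mem_zpowers y)

theorem Eighteen.mem_of_commute (h : Eighteen S) {s y : G} (hs : s ∈ S) (hs1 : s ≠ 1)
    (hy : Commute y s) (hy3 : y ^ 3 = 1) : y ∈ S :=
  h.mem_of_pow (k := 1) (h.cent_le s hs hs1 (mem_centralizer_singleton_iff.2 hy.eq))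
    (by rwa [pow_one])

theorem Eighteen.conj_le (h : Eighteen S) {K : Subgroup G} (hK : IsPGroup 3 K) :
    ∃ g : G, ∀ k ∈ K, g * k * g⁻¹ ∈ S := by
  haveI : Fact (Nat.Prime 3) := ⟨Nat.prime_three⟩
  obtain ⟨P, hP⟩ := h.sylow
  obtain ⟨Q, hQ⟩ := hK.exists_le_sylow
  obtain ⟨g, hg⟩ := MulAction.exists_smul_eq G Q P
  refine ⟨g, fun k hk => ?_⟩
  rw [← hP, ← hg, Sylow.coe_subgroup_smul]
  refine ⟨k, hQ hk, ?_⟩
  simp

theorem Eighteen.conj_mem (h : Eighteen S) {x : G} (hx : x ^ 3 = 1) : ∃ g : G, g * x * g⁻¹ ∈ S :=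
  (h.conj_le (isPGroup_zpowers_pow (k := 1) (by rwa [pow_one]))).imp
    fun _ hg => hg x (mem_zpowers x)

theorem Eighteen.pgroup_commute (h : Eighteen S) {K : Subgroup G} (hK : IsPGroup 3 K) {a b : G}
    (ha : a ∈ K) (hb : b ∈ K) : Commute a b := by
  obtain ⟨g, hg⟩ := h.conj_le hK
  exact (Commute.conj_iff g).1 (h.comm _ (hg a ha) _ (hg b hb))

/-- Fusion in `S` happens in its normaliser. -/
theorem Eighteen.fusion (h : Eighteen S) {s g : G} (hs : s ∈ S) (hs1 : s ≠ 1)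
    (ht : g * s * g⁻¹ ∈ S) : g ∈ normalizer (S : Set G) := by
  have hback : ∀ a, g * a * g⁻¹ ∈ S → a ∈ S := fun a ha => by
    refine h.mem_of_commute hs hs1 ((Commute.conj_iff g).1 (h.comm _ ha _ ht)) ?_
    have := h.exp3 _ ha
    rwa [conj_pow, mul_inv_eq_one, mul_eq_left] at this
  refine mem_normalizer_iff.2 fun a => ⟨fun ha => ?_, hback a⟩
  exact h.mem_of_commute ht (conj_ne_one hs1) ((Commute.conj_iff g).2 (h.comm _ ha _ hs))
    (by rw [conj_pow, h.exp3 a ha, mul_one, mul_inv_cancel])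

theorem Eighteen.pow_eighteen (h : Eighteen S) {z m : G} (hz : z ^ 3 = 1) (hz1 : z ≠ 1)
    (hm : Commute m z) : m ^ 18 = 1 := by
  obtain ⟨g, hg⟩ := h.conj_mem hz
  have hmem : g * m * g⁻¹ ∈ centralizer ({g * z * g⁻¹} : Set G) :=
    mem_centralizer_singleton_iff.2 ((Commute.conj_iff g).2 hm).eq
  have := orderOf_dvd_iff_pow_eq_one.1
    ((h.cent_card _ hg (conj_ne_one hz1)) ▸ Subgroup.orderOf_dvd_natCard _ hmem)
  rwa [conj_pow, mul_inv_eq_one, mul_eq_left] at this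

/-- An element of order 3 commutes with no four-group. -/
theorem Eighteen.involution_unique (h : Eighteen S) {z u v : G} (hz : z ^ 3 = 1) (hz1 : z ≠ 1)
    (hu : Commute u z) (hv : Commute v z) (huv : Commute u v) (hu2 : u ^ 2 = 1) (hv2 : v ^ 2 = 1)
    (hu1 : u ≠ 1) (hv1 : v ≠ 1) : u = v := by
  obtain ⟨g, hg⟩ := h.conj_mem hz
  have hs1 := conj_ne_one (g := g) hz1
  set C := centralizer ({g * z * g⁻¹} : Set G)
  have hSC : S ≤ C := fun a ha => mem_centralizer_singleton_iff.2 (h.comm _ ha _ hg).eq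
  have hidx : (S.subgroupOf C).index = 2 := by
    have h1 := (S.subgroupOf C).card_mul_index
    rw [Nat.card_congr (subgroupOfEquivOfLe hSC).toEquiv, h.card,
      h.cent_card _ hg hs1] at h1
    omega
  let u' : C := ⟨g * u * g⁻¹, mem_centralizer_singleton_iff.2 ((Commute.conj_iff g).2 hu).eq⟩
  let v' : C := ⟨g * v * g⁻¹, mem_centralizer_singleton_iff.2 ((Commute.conj_iff g).2 hv).eq⟩
  have hnot : ∀ {w : G}, w ^ 2 = 1 → w ≠ 1 → g * w * g⁻¹ ∉ S := fun {w} hw hw1 hwS => hw1 (by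
    have h3 := h.exp3 _ hwS
    rw [conj_pow, mul_inv_eq_one, mul_eq_left] at h3
    rwa [pow_succ, hw, one_mul] at h3)
  have hmul : u' * v' ∈ S.subgroupOf C := by
    rw [mul_mem_iff_of_index_two hidx, mem_subgroupOf, mem_subgroupOf]
    exact iff_of_false (hnot hu2 hu1) (hnot hv2 hv1)
  rw [mem_subgroupOf] at hmul
  have h3 : (g * (u * v) * g⁻¹) ^ 3 = 1 := by
    apply h.exp3
    convert hmul using 1
    show g * (u * v) * g⁻¹ = g * u * g⁻¹ * (g * v * g⁻¹)
    group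
  rw [conj_pow, mul_inv_eq_one, mul_eq_left, huv.mul_pow, pow_succ, pow_succ v, hu2, hv2,
    one_mul, one_mul] at h3
  rw [eq_inv_of_mul_eq_one_left h3]
  exact inv_eq_of_mul_eq_one_right (by rw [← pow_two, hv2])

/-- Two elements of order 3 with product of order 3 commute, unless all three are conjugate. -/
theorem Eighteen.triangle (h : Eighteen S) {x y : G} (hx : x ^ 3 = 1) (hy : y ^ 3 = 1)
    (hxy : (x * y) ^ 3 = 1) (hne : ¬ Commute x y) : IsConj x⁻¹ (x * y) := by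
  have hx1 : x ≠ 1 := fun e => hne (e ▸ Commute.one_left y)
  have hx' : x⁻¹ = x * x := inv_eq_of_mul_eq_one_left (by rw [← pow_two, ← pow_succ, hx])
  have hy' : y⁻¹ = y * y := inv_eq_of_mul_eq_one_left (by rw [← pow_two, ← pow_succ, hy])
  set a := x⁻¹ * y with ha
  set b := y * x⁻¹ with hb
  set c := x * y * x⁻¹ * x⁻¹ with hc
  have hab' : x * a * x⁻¹ = b := by rw [ha, hb]; group
  have hbc : x * b * x⁻¹ = c := by rw [hb, hc]; group
  have habc : a * b * c = 1 := by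
    have e1 : a * b * c = x⁻¹ * y ^ 3 * x⁻¹ * x⁻¹ := by rw [ha, hb, hc, pow_succ, pow_two]; group
    rw [e1, hy, mul_one, ← inv_pow_three, hx, inv_one]
  have hcomm : a * b = b * a := by
    have e1 : y * x * y = x⁻¹ * y⁻¹ * x⁻¹ := by
      have e2 : x * y * (x * y) * (x * y) = 1 := by rw [← pow_two, ← pow_succ, hxy]
      calc y * x * y = x⁻¹ * (x * y * (x * y) * (x * y)) * y⁻¹ * x⁻¹ := by group
        _ = _ := by rw [e2]; group
    calc a * b = x⁻¹ * (y * y) * x⁻¹ := by rw [ha, hb]; group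
      _ = x⁻¹ * y⁻¹ * x⁻¹ := by rw [hy']
      _ = y * x * y := e1.symm
      _ = y * (x⁻¹ * x⁻¹) * y := by
        rw [show x⁻¹ * x⁻¹ = (x * x)⁻¹ from (mul_inv_rev _ _).symm, ← hx', inv_inv]
      _ = b * a := by rw [ha, hb]; group
  set M := closure ({a, b} : Set G) with hM
  have haM : a ∈ M := subset_closure (by simp)
  have hbM : b ∈ M := subset_closure (by simp)
  have hcM : c ∈ M := by
    rw [show c = (a * b)⁻¹ from eq_inv_of_mul_eq_one_right habc]
    exact M.inv_mem (M.mul_mem haM hbM)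
  have hMab : ∀ u ∈ M, ∀ v ∈ M, Commute u v := by
    have hle : M ≤ centralizer ({a, b} : Set G) := by
      rw [hM, closure_le]
      rintro u (rfl | rfl)
      · exact mem_centralizer_iff.2 (by rintro v (rfl | rfl) <;> [rfl; exact hcomm.symm])
      · exact mem_centralizer_iff.2 (by rintro v (rfl | rfl) <;> [exact hcomm; rfl])
    intro u hu v hv
    rw [← centralizer_closure] at hle
    exact (mem_centralizer_iff.1 (hle hv) u hu)
  have hMx : ∀ u ∈ M, x * u * x⁻¹ ∈ M := by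
    have hle : M ≤ M.comap (MulAut.conj x).toMonoidHom := by
      conv_lhs => rw [hM]
      rw [closure_le]
      rintro u (rfl | rfl)
      · show x * a * x⁻¹ ∈ M; rw [hab']; exact hbM
      · show x * b * x⁻¹ ∈ M; rw [hbc]; exact hcM
    exact fun u hu => hle hu
  have hMx' : ∀ u ∈ M, x⁻¹ * u * x ∈ M := fun u hu => by
    have hxx : (x * x)⁻¹ = x := by rw [← hx', inv_inv]
    rw [show x⁻¹ * u * x = x * (x * u * x⁻¹) * x⁻¹ by
      calc x⁻¹ * u * x = x * x * u * (x * x)⁻¹ := by rw [hxx, ← hx']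
        _ = _ := by group]
    exact hMx _ (hMx u hu)
  have hprod : ∀ u v w t : G, u ∈ M → v ∈ M → w ∈ M → t ∈ M →
      u * v * (w * t) = u * w * (v * t) := fun u v w t _ hv hw _ =>
    (hMab v hv w hw).mul_mul_mul_comm u t
  have hnorm1 : ∀ u ∈ M, u * (x * u * x⁻¹) * (x * (x * u * x⁻¹) * x⁻¹) = 1 := by
    have hxc : x * c * x⁻¹ = a := by
      rw [← hbc, ← hab']
      calc x * (x * (x * a * x⁻¹) * x⁻¹) * x⁻¹ = x ^ 3 * a * (x⁻¹ * x⁻¹ * x⁻¹) := by
            rw [pow_succ, pow_two]; group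
        _ = a := by rw [← inv_pow_three, hx, inv_one, one_mul, mul_one]
    intro u hu
    induction hu using closure_induction with
    | mem u hu =>
      rcases hu with rfl | rfl
      · rw [hab', hbc]; exact habc
      · rw [hbc, hxc, (hMab _ (M.mul_mem hbM hcM) _ haM).eq, ← mul_assoc, habc]
    | one => simp
    | mul u v hu hv ihu ihv =>
      rw [show x * (u * v) * x⁻¹ = x * u * x⁻¹ * (x * v * x⁻¹) by group,
        show x * (x * u * x⁻¹ * (x * v * x⁻¹)) * x⁻¹ =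
          x * (x * u * x⁻¹) * x⁻¹ * (x * (x * v * x⁻¹) * x⁻¹) by group,
        hprod _ _ _ _ hu hv (hMx u hu) (hMx v hv),
        hprod _ _ _ _ (M.mul_mem hu (hMx u hu)) (M.mul_mem hv (hMx v hv)) (hMx _ (hMx u hu))
          (hMx _ (hMx v hv)), ihu, ihv, one_mul]
    | inv u hu ih =>
      have h1 := congrArg (·⁻¹) ih
      simp only [inv_one] at h1
      rw [(hMab _ (M.inv_mem hu) _ (hMx _ (M.inv_mem hu))).eq,
        (hMab _ (M.mul_mem (hMx _ (M.inv_mem hu)) (M.inv_mem hu)) _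
          (hMx _ (hMx _ (M.inv_mem hu)))).eq]
      rw [← h1]
      simp only [mul_inv_rev, inv_inv, mul_assoc]
  have hfix : ∀ u ∈ M, Commute u x → u ^ 3 = 1 := by
    intro u hu hcu
    have h1 := hnorm1 u hu
    have e : x * u * x⁻¹ = u := by rw [← hcu.eq, mul_inv_cancel_right]
    rw [e, e] at h1
    rw [pow_succ, pow_two, h1]
  by_cases h3 : ∃ z ∈ M, z ^ 3 = 1 ∧ z ≠ 1
  · exfalso
    obtain ⟨z, hzM, hz, hz1⟩ := h3
    apply hne
    have h18 : ∀ u ∈ M, u ^ 18 = 1 := fun u hu => h.pow_eighteen hz hz1 (hMab u hu z hzM)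
    have hu9 : ∀ u ∈ M, u ^ 9 ≠ 1 → ∀ v ∈ M, v ^ 9 ≠ 1 → u ^ 9 = v ^ 9 := by
      intro u hu h1 v hv h2
      exact h.involution_unique hz hz1 ((hMab u hu z hzM).pow_left 9) ((hMab v hv z hzM).pow_left 9)
        ((hMab u hu v hv).pow_pow 9 9) (by rw [← pow_mul]; exact h18 u hu)
        (by rw [← pow_mul]; exact h18 v hv) h1 h2
    have ha9 : a ^ 9 = 1 := by
      by_contra hn
      have hb9 : b ^ 9 ≠ 1 := fun e => hn (by
        rwa [← hab', conj_pow, mul_inv_eq_one, mul_eq_left] at e)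
      have hc9 : c ^ 9 ≠ 1 := fun e => hb9 (by
        rwa [← hbc, conj_pow, mul_inv_eq_one, mul_eq_left] at e)
      have h1 := congrArg (· ^ 9) habc
      simp only [one_pow] at h1
      rw [(hMab _ (M.mul_mem haM hbM) _ hcM).mul_pow, (hMab _ haM _ hbM).mul_pow,
        ← hu9 a haM hn b hbM hb9, ← hu9 a haM hn c hcM hc9, ← pow_add, ← pow_add] at h1
      refine hn ?_
      calc a ^ 9 = a ^ 9 * a ^ 18 := by rw [h18 a haM, mul_one]
        _ = a ^ (9 + 9 + 9) := by rw [← pow_add]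
        _ = 1 := h1
    have hb9 : b ^ 9 = 1 := by rw [← hab', conj_pow, ha9, mul_one, mul_inv_cancel]
    have hM9 : ∀ u ∈ M, u ^ 9 = 1 := by
      intro u hu
      induction hu using closure_induction with
      | mem u hu =>
        rcases hu with rfl | rfl
        · exact ha9
        · exact hb9
      | one => simp
      | mul u v hu hv ihu ihv => rw [(hMab u hu v hv).mul_pow, ihu, ihv, one_mul]
      | inv u hu ih => rw [inv_pow, ih, inv_one]
    have hMp : IsPGroup 3 M := fun u => ⟨2, Subtype.ext (by simpa using hM9 u u.2)⟩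
    haveI : Fact (Nat.Prime 3) := ⟨Nat.prime_three⟩
    have hnorm : zpowers x ≤ normalizer (M : Set G) := zpowers_le.2 (mem_normalizer_iff.2
      fun u => ⟨hMx u, fun hu => by simpa [mul_assoc] using hMx' _ hu⟩)
    have hK := hMp.to_sup_of_normal_left' (isPGroup_zpowers_pow (k := 1) (by rwa [pow_one])) hnorm
    exact h.pgroup_commute hK (mem_sup_right (mem_zpowers x)) (by
      rw [show y = x * a by rw [ha, mul_inv_cancel_left]]
      exact mul_mem (mem_sup_right (mem_zpowers x)) (mem_sup_left haM))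
  -- `x⁻¹` is conjugate to every element of `M x⁻¹`
  push Not at h3
  let F : M → M := fun m => ⟨(m : G) * (x⁻¹ * (m : G)⁻¹ * x), M.mul_mem m.2
    (hMx' _ (M.inv_mem m.2))⟩
  have hFinj : Function.Injective F := by
    intro u v huv
    have h1 : (u : G) * x⁻¹ * (u : G)⁻¹ = (v : G) * x⁻¹ * (v : G)⁻¹ := by
      have := congrArg (fun w : M => (w : G) * x⁻¹) huv
      simpa [F, mul_assoc] using this
    have h2 : Commute ((v : G)⁻¹ * u) x⁻¹ := by
      show (v : G)⁻¹ * u * x⁻¹ = x⁻¹ * ((v : G)⁻¹ * u)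
      calc (v : G)⁻¹ * u * x⁻¹ = (v : G)⁻¹ * ((u : G) * x⁻¹ * (u : G)⁻¹) * u := by group
        _ = _ := by rw [h1]; group
    have h4 : (v : G)⁻¹ * u = 1 := by
      have hmem := M.mul_mem (M.inv_mem v.2) u.2
      exact h3 _ hmem (hfix _ hmem (by simpa using h2.inv_right))
    exact Subtype.ext ((inv_mul_eq_one.1 h4).symm)
  haveI : Finite M := inferInstance
  obtain ⟨m, hm⟩ := (Finite.injective_iff_surjective.1 hFinj) ⟨c, hcM⟩
  refine isConj_iff.2 ⟨m, ?_⟩
  have hm' : (m : G) * (x⁻¹ * (m : G)⁻¹ * x) = c := congrArg Subtype.val hm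
  calc (m : G) * x⁻¹ * (m : G)⁻¹ = (m : G) * (x⁻¹ * (m : G)⁻¹ * x) * x⁻¹ := by group
    _ = x * y * (x⁻¹ * x⁻¹ * x⁻¹) := by rw [hm', hc]; group
    _ = x * y := by rw [← inv_pow_three, hx, inv_one, mul_one]

/-- Conjugate elements of `S` are conjugate in its normaliser. -/
theorem Eighteen.isConj_iff (h : Eighteen S) {s t : G} (hs : s ∈ S) (hs1 : s ≠ 1) (ht : t ∈ S) :
    IsConj s t ↔ ∃ n ∈ normalizer (S : Set G), n * s * n⁻¹ = t := by
  constructor
  · intro hc
    obtain ⟨g, hg⟩ := _root_.isConj_iff.1 hc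
    exact ⟨g, h.fusion hs hs1 (hg ▸ ht), hg⟩
  · rintro ⟨n, -, hn⟩
    exact _root_.isConj_iff.2 ⟨n, hn⟩

theorem Eighteen.coord_add (h : Eighteen S) {e f : G} (he : e ∈ S) (hf : f ∈ S)
    (p q : Fin 3 × Fin 3) : coord e f (p + q) = coord e f p * coord e f q := by
  have hc : Commute (f ^ (p.2 : ℕ)) (e ^ (q.1 : ℕ)) := (h.comm _ hf _ he).pow_pow _ _
  have hpow : ∀ {x : G}, x ∈ S → ∀ a b : Fin 3, x ^ ((a + b : Fin 3) : ℕ) = x ^ ((a : ℕ) + b) := by
    intro x hx a b
    rw [Fin.val_add]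
    exact (pow_eq_pow_mod _ (h.exp3 x hx)).symm
  simp only [coord, Prod.fst_add, Prod.snd_add, hpow he, hpow hf, pow_add]
  calc e ^ (p.1 : ℕ) * e ^ (q.1 : ℕ) * (f ^ (p.2 : ℕ) * f ^ (q.2 : ℕ))
      = e ^ (p.1 : ℕ) * (e ^ (q.1 : ℕ) * f ^ (p.2 : ℕ)) * f ^ (q.2 : ℕ) := by group
    _ = _ := by rw [← hc.eq]; group

theorem Eighteen.coord_neg (h : Eighteen S) {e f : G} (he : e ∈ S) (hf : f ∈ S)
    (p : Fin 3 × Fin 3) : coord e f (-p) = (coord e f p)⁻¹ :=
  eq_inv_of_mul_eq_one_left (by rw [← h.coord_add he hf, neg_add_cancel, coord_zero])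

theorem Eighteen.real (h : Eighteen S) (hinv : ∀ s ∈ S, IsConj s s⁻¹) {x : G} (hx : x ^ 3 = 1) :
    IsConj x x⁻¹ := by
  obtain ⟨g, hg⟩ := h.conj_mem hx
  have h1 : IsConj x (g * x * g⁻¹) := _root_.isConj_iff.2 ⟨g, rfl⟩
  refine (h1.trans (hinv _ hg)).trans (_root_.isConj_iff.2 ⟨g⁻¹, ?_⟩)
  group

theorem Eighteen.card_class (h : Eighteen S) {s : G} (hs : s ∈ S) (hs1 : s ≠ 1) :
    18 * Nat.card {x : G // IsConj s x} = Nat.card G := by
  letI := Fintype.ofFinite G
  rw [Nat.card_eq_fintype_card, Fintype.card_subtype, mul_comm]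
  have := Char.card_isConj_mul_card_centralizer s
  rw [h.cent_card s hs hs1] at this
  convert this using 3
  ext y; simp

/-- The number of ways of writing `v` as a product of two conjugates of `u`, when they are not
conjugate. -/
theorem Eighteen.card_pairs (h : Eighteen S) {e f : G} (he : e ∈ S) (hf : f ∈ S)
    (hb : Function.Bijective (fun p => (⟨coord e f p, coord_mem he hf p⟩ : S)))
    (hinv : ∀ s ∈ S, IsConj s s⁻¹) (p₀ r : Fin 3 × Fin 3) (hr0 : r ≠ 0) (R : Fin 3 × Fin 3 → Prop)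
    [DecidablePred R] (hR : ∀ p, IsConj (coord e f p₀) (coord e f p) ↔ R p) (hne : ¬ R r) :
    Nat.card {q : G × G // IsConj (coord e f p₀) q.1 ∧ IsConj (coord e f p₀) q.2 ∧
      q.1 * q.2 = coord e f r} =
    (Finset.univ.filter fun q : (Fin 3 × Fin 3) × (Fin 3 × Fin 3) =>
      R q.1 ∧ R q.2 ∧ q.1 + q.2 = r).card := by
  set u := coord e f p₀
  have hu3 : u ^ 3 = 1 := h.exp3 _ (coord_mem he hf p₀)
  have hinj : Function.Injective (coord e f) := fun p q hpq => hb.1 (Subtype.ext hpq)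
  have hv : coord e f r ∈ S := coord_mem he hf r
  have hv1 : coord e f r ≠ 1 := fun e' => hr0 (hinj (e'.trans (coord_zero e f).symm))
  have hpow : ∀ {x : G}, IsConj u x → x ^ 3 = 1 := fun hx => by
    obtain ⟨g, rfl⟩ := _root_.isConj_iff.1 hx
    rw [conj_pow, hu3, mul_one, mul_inv_cancel]
  rw [← Fintype.card_subtype, ← Nat.card_eq_fintype_card]
  symm
  refine Nat.card_eq_of_bijective
    (fun q => ⟨(coord e f q.1.1, coord e f q.1.2), (hR _).2 q.2.1, (hR _).2 q.2.2.1, by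
      rw [← h.coord_add he hf]; exact congrArg _ q.2.2.2⟩) ⟨?_, ?_⟩
  · intro q q' hq
    simp only [Subtype.mk.injEq, Prod.mk.injEq] at hq
    exact Subtype.ext (Prod.ext (hinj hq.1) (hinj hq.2))
  · rintro ⟨⟨x, y⟩, hx, hy, hxy⟩
    dsimp only at hx hy hxy
    have hcom : Commute x y := by
      by_contra hnc
      have h3 : (x * y) ^ 3 = 1 := hxy ▸ h.exp3 _ hv
      have := h.triangle (hpow hx) (hpow hy) h3 hnc
      rw [hxy] at this
      exact hne ((hR r).1 ((hx.trans (h.real hinv (hpow hx))).trans this))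
    have hxS : x ∈ S := h.mem_of_commute hv hv1 (hxy ▸ (Commute.refl x).mul_right hcom) (hpow hx)
    have hyS : y ∈ S := by
      rw [show y = x⁻¹ * coord e f r by rw [← hxy, inv_mul_cancel_left]]
      exact S.mul_mem (S.inv_mem hxS) hv
    obtain ⟨p, hp⟩ := hb.2 ⟨x, hxS⟩
    obtain ⟨q, hq⟩ := hb.2 ⟨y, hyS⟩
    have hp' : coord e f p = x := congrArg Subtype.val hp
    have hq' : coord e f q = y := congrArg Subtype.val hq
    refine ⟨⟨(p, q), (hR p).1 (hp' ▸ hx), (hR q).1 (hq' ▸ hy), hinj ?_⟩, ?_⟩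
    · rw [h.coord_add he hf, hp', hq', hxy]
    · exact Subtype.ext (Prod.ext hp' hq')

end Cfsg.Agent.SixSym
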