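import Cfsg.Agent.SixSym.Frame
import Cfsg.Agent.SixSym.Arith

/-!
# A non-normal such Sylow 3-subgroup forces order 720
-/

set_option autoImplicit false
set_option linter.unusedSectionVars false
set_option linter.style.haveILetI false

namespace Cfsg.Agent.SixSym

open Cfsg Cfsg.Agent Subgroup DihedralGroup
open scoped Classical ComplexConjugate
open Cfsg.Agent.ThreeNine (coord coord_zero coord_mem)

universe u

variable {G : Type u} [Group G] [Fintype G] {S : Subgroup G} {e f ρ σ : G}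

/-- The change of coordinates between the two classes. -/
def swapClass (p : Fin 3 × Fin 3) : Fin 3 × Fin 3 := (p.1 + 2 * p.2, p.1 + p.2)

theorem Setting.card_normalizer (hS : Setting S) :
    Nat.card (normalizer (S : Set G)) = 72 := by
  obtain ⟨π, hsur, hker⟩ := hS.quot
  have hk : Nat.card π.ker = 9 := by
    rw [← hS.card]
    refine Nat.card_congr ⟨fun x => ⟨_, (hker x.1).1 x.2⟩,
      fun s => ⟨⟨s, le_normalizer s.2⟩, (hker _).2 s.2⟩, fun x => rfl, fun s => rfl⟩
  have h8 : Nat.card π.range = 8 := by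
    rw [MonoidHom.range_eq_top.2 hsur, Subgroup.card_top, DihedralGroup.nat_card]
  have h := π.ker.card_mul_index
  rw [Subgroup.index_ker, hk, h8] at h
  exact h.symm

theorem Frame.bij (hS : Setting S) (F : Frame S e f ρ σ) :
    Function.Bijective (fun p => (⟨coord e f p, coord_mem F.he F.hf p⟩ : S)) := by
  letI := Fintype.ofFinite S
  exact (Fintype.bijective_iff_injective_and_card _).2 ⟨fun p q hpq =>
    F.inj (congrArg Subtype.val hpq), by
      rw [← Nat.card_eq_fintype_card, ← Nat.card_eq_fintype_card, hS.card]; simp⟩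

theorem Frame.surj (hS : Setting S) (F : Frame S e f ρ σ) {s : G} (hs : s ∈ S) :
    ∃ p, coord e f p = s := by
  obtain ⟨p, hp⟩ := (F.bij hS).2 ⟨s, hs⟩
  exact ⟨p, congrArg Subtype.val hp⟩

theorem Frame.mem_of_act (hS : Setting S) (F : Frame S e f ρ σ) {n : G}
    (h : ∀ p, n * coord e f p * n⁻¹ = coord e f p) : n ∈ S :=
  hS.mem_of_fix fun s hs => by obtain ⟨p, rfl⟩ := F.surj hS hs; exact h p

theorem Frame.isConj_coord (hS : Setting S) (F : Frame S e f ρ σ) {p q : Fin 3 × Fin 3}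
    (hp : p ≠ 0) : IsConj (coord e f p) (coord e f q) ↔
      ∃ k < 4, rot^[k] p = q ∨ flipSnd (rot^[k] p) = q := by
  have hρ : ∀ k p, ρ ^ k * coord e f p * (ρ ^ k)⁻¹ = coord e f (rot^[k] p) := by
    intro k
    induction k with
    | zero => intro p; simp
    | succ k ih =>
      intro p
      rw [pow_succ, show ρ ^ k * ρ * coord e f p * (ρ ^ k * ρ)⁻¹ =
        ρ ^ k * (ρ * coord e f p * ρ⁻¹) * (ρ ^ k)⁻¹ by group, F.actρ, ih,
        Function.iterate_succ_apply]
  constructor
  · intro hc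
    obtain ⟨g, hg⟩ := isConj_iff.1 hc
    have hgN : g ∈ normalizer (S : Set G) := by
      have hne : coord e f p ≠ 1 := fun e' => hp (F.inj (e'.trans (coord_zero e f).symm))
      have hback : ∀ a, a ∈ S → g * a * g⁻¹ ∈ S := by
        intro a ha
        have h1 : Commute (g * a * g⁻¹) (coord e f q) := by
          rw [← hg]; exact (Commute.conj_iff g).2 (hS.comm _ ha _ (coord_mem F.he F.hf p))
        have hq1 : coord e f q ≠ 1 := hg ▸ conj_ne_one hne
        have h2 := hS.cent_le _ (coord_mem F.he F.hf q) hq1 (mem_centralizer_singleton_iff.2 h1.eq)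
        obtain ⟨P, hP⟩ := hS.sylow
        haveI : Fact (Nat.Prime 3) := ⟨Nat.prime_three⟩
        have h3 : (g * a * g⁻¹) ^ 3 ^ 1 = 1 := by
          rw [pow_one, conj_pow, hS.exp3 a ha, mul_one, mul_inv_cancel]
        have hpg := (hP ▸ P.isPGroup').to_sup_of_normal_left' (isPGroup_zpowers_pow h3)
          (zpowers_le.2 h2)
        have := P.is_maximal' hpg (hP ▸ le_sup_left)
        rw [← hP, ← this]
        exact mem_sup_right (mem_zpowers _)
      refine mem_normalizer_iff.2 fun a => ⟨hback a, fun ha => ?_⟩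
      have hle : S.map (MulAut.conj g).toMonoidHom ≤ S := by
        rintro _ ⟨b, hb, rfl⟩
        exact hback b hb
      have heq := eq_of_le_of_card_ge hle (by
        rw [Nat.card_congr (S.equivMapOfInjective _ (MulAut.conj g).injective).symm.toEquiv])
      rw [← heq] at ha
      obtain ⟨b, hb, hba⟩ := ha
      have : g * b * g⁻¹ = g * a * g⁻¹ := hba
      rwa [← mul_left_cancel (mul_right_cancel this)]
    obtain ⟨k, hk, h | h⟩ := F.act g hgN
    · exact ⟨k, hk, Or.inl (F.inj ((h p).symm.trans hg))⟩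
    · exact ⟨k, hk, Or.inr (F.inj ((h p).symm.trans hg))⟩
  · rintro ⟨k, -, h | h⟩
    · exact isConj_iff.2 ⟨ρ ^ k, by rw [hρ, h]⟩
    · exact isConj_iff.2 ⟨σ * ρ ^ k, by
        rw [show σ * ρ ^ k * coord e f p * (σ * ρ ^ k)⁻¹ =
          σ * (ρ ^ k * coord e f p * (ρ ^ k)⁻¹) * σ⁻¹ by group, hρ, F.actσ, h]⟩

theorem Frame.fusA (hS : Setting S) (F : Frame S e f ρ σ) (p : Fin 3 × Fin 3) :
    IsConj (coord e f (1, 0)) (coord e f p) ↔ RA p := by
  rw [F.isConj_coord hS (by decide)]
  revert p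
  decide

theorem Frame.fusB (hS : Setting S) (F : Frame S e f ρ σ) (p : Fin 3 × Fin 3) :
    IsConj (coord e f (1, 1)) (coord e f p) ↔ RB p := by
  rw [F.isConj_coord hS (by decide)]
  revert p
  decide

theorem Frame.fix_id : ∀ p₀ ∈ ({(1, 0), (1, 1)} : Finset (Fin 3 × Fin 3)), ∀ k < 4,
    (rot^[k] p₀ = p₀ → ∀ p, rot^[k] p = p) ∧
    (flipSnd (rot^[k] p₀) = p₀ → ∀ p, flipSnd (rot^[k] p) =
      if p₀ = (1, 0) then flipSnd p else flipSnd (rot^[3] p)) := by
  decide

theorem card_centralizer_conj {x y : G} (h : IsConj x y) :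
    Nat.card (centralizer ({x} : Set G)) = Nat.card (centralizer ({y} : Set G)) := by
  obtain ⟨g, rfl⟩ := isConj_iff.1 h
  refine Nat.card_congr ((MulAut.conj g).toEquiv.subtypeEquiv fun a => ?_)
  rw [mem_centralizer_singleton_iff, mem_centralizer_singleton_iff]
  exact ⟨fun h => ((Commute.conj_iff g).2 h).eq, fun h => ((Commute.conj_iff g).1 h).eq⟩

/-- An involution inducing the reflection fixing `p₀`. -/
theorem Frame.exists_reflection (hS : Setting S) (F : Frame S e f ρ σ) :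
    ∀ p₀ ∈ ({(1, 0), (1, 1)} : Finset (Fin 3 × Fin 3)), ∃ t ∈ normalizer (S : Set G), t * t = 1 ∧
      ∀ p, t * coord e f p * t⁻¹ =
        coord e f (if p₀ = (1, 0) then flipSnd p else flipSnd (rot^[3] p)) := by
  intro p₀ hp₀
  simp only [Finset.mem_insert, Finset.mem_singleton] at hp₀
  rcases hp₀ with rfl | rfl
  · exact ⟨σ, F.σN, F.σ2, fun p => by rw [if_pos rfl]; exact F.actσ p⟩
  · set w := σ * ρ * ρ * ρ with hw
    have hwN : w ∈ normalizer (S : Set G) :=
      mul_mem (mul_mem (mul_mem F.σN F.ρN) F.ρN) F.ρN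
    have hact : ∀ p, w * coord e f p * w⁻¹ = coord e f (flipSnd (rot^[3] p)) := fun p => by
      rw [hw, show σ * ρ * ρ * ρ * coord e f p * (σ * ρ * ρ * ρ)⁻¹ =
        σ * (ρ * (ρ * (ρ * coord e f p * ρ⁻¹) * ρ⁻¹) * ρ⁻¹) * σ⁻¹ by group, F.actρ, F.actρ, F.actρ,
        F.actσ]
      rfl
    have hsq : w * w ∈ S := F.mem_of_act hS fun p => by
      rw [show w * w * coord e f p * (w * w)⁻¹ = w * (w * coord e f p * w⁻¹) * w⁻¹ by group,
        hact, hact]
      congr 1
      revert p
      decide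
    refine ⟨w * (w * w) ^ 4, mul_mem hwN (pow_mem (mul_mem hwN hwN) 4), ?_, fun p => ?_⟩
    · have h9 : (w * w) ^ 9 = 1 := by
        rw [show 9 = 3 * 3 from rfl, pow_mul, hS.exp3 _ hsq, one_pow]
      have hc : Commute ((w * w) ^ 4) w := ((Commute.refl w).mul_left (Commute.refl w)).pow_left 4
      rw [hc.mul_mul_mul_comm, ← pow_add, ← pow_succ', h9]
    · rw [if_neg (by decide), show w * (w * w) ^ 4 * coord e f p * (w * (w * w) ^ 4)⁻¹ =
        w * ((w * w) ^ 4 * coord e f p * ((w * w) ^ 4)⁻¹) * w⁻¹ by group,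
        (hS.comm _ (S.pow_mem hsq 4) _ (coord_mem F.he F.hf p)).eq, mul_inv_cancel_right, hact]

theorem Frame.cent_card (hS : Setting S) (F : Frame S e f ρ σ) :
    ∀ s ∈ S, s ≠ 1 → Nat.card (centralizer ({s} : Set G)) = 18 := by
  have key : ∀ p₀ ∈ ({(1, 0), (1, 1)} : Finset (Fin 3 × Fin 3)),
      Nat.card (centralizer ({coord e f p₀} : Set G)) = 18 := by
    intro p₀ hp₀
    set g : Fin 3 × Fin 3 → Fin 3 × Fin 3 :=
      fun p => if p₀ = (1, 0) then flipSnd p else flipSnd (rot^[3] p) with hg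
    have hg0 : g p₀ = p₀ ∧ (∀ p, g (g p) = p) ∧ ¬ ∀ p, g p = p := by
      rw [hg]
      simp only [Finset.mem_insert, Finset.mem_singleton] at hp₀
      rcases hp₀ with rfl | rfl <;> decide
    have hp0ne : p₀ ≠ 0 := by
      simp only [Finset.mem_insert, Finset.mem_singleton] at hp₀
      rcases hp₀ with rfl | rfl <;> decide
    obtain ⟨t, htN, -, ht⟩ := F.exists_reflection hS p₀ hp₀
    set C := centralizer ({coord e f p₀} : Set G)
    have hs1 : coord e f p₀ ≠ 1 := fun e' => hp0ne (F.inj (e'.trans (coord_zero e f).symm))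
    have hC : ∀ n ∈ C, (∀ p, n * coord e f p * n⁻¹ = coord e f p) ∨
        (∀ p, n * coord e f p * n⁻¹ = coord e f (g p)) := by
      intro n hn
      have hn0 : n * coord e f p₀ * n⁻¹ = coord e f p₀ :=
        mul_inv_eq_iff_eq_mul.2 (mem_centralizer_singleton_iff.1 hn)
      obtain ⟨k, hk, h | h⟩ := F.act n (hS.cent_le _ (coord_mem F.he F.hf p₀) hs1 hn)
      · refine Or.inl fun p => ?_
        rw [h, (Frame.fix_id p₀ hp₀ k hk).1 (F.inj ((h p₀).symm.trans hn0))]
      · refine Or.inr fun p => ?_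
        rw [h, (Frame.fix_id p₀ hp₀ k hk).2 (F.inj ((h p₀).symm.trans hn0))]
    have hSC : S ≤ C := fun a ha =>
      mem_centralizer_singleton_iff.2 (hS.comm _ ha _ (coord_mem F.he F.hf p₀)).eq
    have htC : t ∈ C := mem_centralizer_singleton_iff.2 (mul_inv_eq_iff_eq_mul.1 (by
      rw [ht]; exact congrArg _ hg0.1))
    have hnotS : ∀ n, (∀ p, n * coord e f p * n⁻¹ = coord e f (g p)) → n ∉ S := fun n hn hnS =>
      hg0.2.2 fun p => (F.inj (by
        rw [← hn p, (hS.comm _ hnS _ (coord_mem F.he F.hf p)).eq, mul_inv_cancel_right] :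
          coord e f (g p) = coord e f p))
    have hidx : (S.subgroupOf C).index = 2 := by
      refine Subgroup.index_eq_two_iff.2 ⟨⟨t, htC⟩, fun b => ?_⟩
      simp only [mem_subgroupOf, Subgroup.coe_mul]
      rcases hC b b.2 with h | h
      · refine Or.inr ⟨F.mem_of_act hS h, fun hbt => hnotS (b * t) (fun p => ?_) hbt⟩
        rw [show (b : G) * t * coord e f p * ((b : G) * t)⁻¹ =
          (b : G) * (t * coord e f p * t⁻¹) * (b : G)⁻¹ by group, ht, h]
      · refine Or.inl ⟨F.mem_of_act hS fun p => ?_, hnotS _ h⟩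
        rw [show (b : G) * t * coord e f p * ((b : G) * t)⁻¹ =
          (b : G) * (t * coord e f p * t⁻¹) * (b : G)⁻¹ by group, ht, h]
        exact congrArg _ (hg0.2.1 p)
    have h1 := (S.subgroupOf C).card_mul_index
    rw [Nat.card_congr (subgroupOfEquivOfLe hSC).toEquiv, hS.card, hidx] at h1
    exact h1.symm
  intro s hs hs1
  obtain ⟨p, rfl⟩ := F.surj hS hs
  have hp : RA p ∨ RB p := by
    have hp0 : p ≠ 0 := fun e' => hs1 (e' ▸ coord_zero e f)
    revert hp0
    clear hs hs1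
    revert p
    decide
  rcases hp with hp | hp
  · rw [← card_centralizer_conj ((F.fusA hS p).2 hp)]
    exact key _ (by simp)
  · rw [← card_centralizer_conj ((F.fusB hS p).2 hp)]
    exact key _ (by simp)

theorem Frame.eighteen (hS : Setting S) (F : Frame S e f ρ σ) : Eighteen S :=
  ⟨hS.card, hS.exp3, hS.comm, hS.sylow, hS.cent_le, F.cent_card hS⟩

theorem Frame.inv (hS : Setting S) (F : Frame S e f ρ σ) : ∀ s ∈ S, IsConj s s⁻¹ := by
  intro s hs
  obtain ⟨p, rfl⟩ := F.surj hS hs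
  refine isConj_iff.2 ⟨ρ * ρ, ?_⟩
  rw [show ρ * ρ * coord e f p * (ρ * ρ)⁻¹ = ρ * (ρ * coord e f p * ρ⁻¹) * ρ⁻¹ by group,
    F.actρ, F.actρ, ← (F.eighteen hS).coord_neg F.he F.hf]
  congr 1

theorem Frame.reverse (hS : Setting S) (F : Frame S e f ρ σ) {t : G} (ht2 : t * t = 1)
    (g : Fin 3 × Fin 3 → Fin 3 × Fin 3) (hg : ∀ p, g (-p) = -g p) (hgg : ∀ p, g (g p) = p)
    (ht : ∀ p, t * coord e f p * t⁻¹ = coord e f (g p)) (p₀ : Fin 3 × Fin 3) :
    ∃ r, r * coord e f p₀ * r⁻¹ = (coord e f p₀)⁻¹ ∧ r * t * r⁻¹ = t := by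
  have h := F.eighteen hS
  have hti : t⁻¹ = t := inv_eq_of_mul_eq_one_right ht2
  set z := ρ * ρ with hz
  have hzact : ∀ p, z * coord e f p * z⁻¹ = coord e f (-p) := fun p => by
    rw [hz, show ρ * ρ * coord e f p * (ρ * ρ)⁻¹ = ρ * (ρ * coord e f p * ρ⁻¹) * ρ⁻¹ by group,
      F.actρ, F.actρ]
    rfl
  set s₀ := z * t * z⁻¹ * t with hs₀
  have hzinvact : ∀ p, z⁻¹ * coord e f p * z = coord e f (-p) := fun p => by
    have := hzact (-p)
    rw [neg_neg] at this
    rw [← this]
    group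
  have hs₀S : s₀ ∈ S := F.mem_of_act hS fun p => by
    rw [hs₀, show z * t * z⁻¹ * t * coord e f p * (z * t * z⁻¹ * t)⁻¹ =
      z * (t * (z⁻¹ * (t * coord e f p * t⁻¹) * z) * t⁻¹) * z⁻¹ by group, ht, hzinvact, ht, hzact,
      hg, hgg, neg_neg]
  obtain ⟨q, hq⟩ := F.surj hS hs₀S
  have hzt : z * t * z⁻¹ = s₀ * t := by rw [hs₀, mul_assoc _ t t, ht2, mul_one]
  have hgq : g q = -q := by
    apply F.inj
    rw [← ht, h.coord_neg F.he F.hf, hq]
    have h1 : s₀ * t * (s₀ * t) = 1 := by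
      rw [← hzt, show z * t * z⁻¹ * (z * t * z⁻¹) = z * (t * t) * z⁻¹ by group, ht2, mul_one,
        mul_inv_cancel]
    refine eq_inv_of_mul_eq_one_right ?_
    rw [hti, ← h1]
    group
  refine ⟨coord e f q * z, ?_, ?_⟩
  · rw [show coord e f q * z * coord e f p₀ * (coord e f q * z)⁻¹ =
      coord e f q * (z * coord e f p₀ * z⁻¹) * (coord e f q)⁻¹ by group, hzact,
      (hS.comm _ (coord_mem F.he F.hf q) _ (coord_mem F.he F.hf _)).eq, mul_inv_cancel_right,
      h.coord_neg F.he F.hf]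
  · rw [show coord e f q * z * t * (coord e f q * z)⁻¹ =
      coord e f q * (z * t * z⁻¹) * (coord e f q)⁻¹ by group, hzt, ← hq]
    have h2 : t * (coord e f q)⁻¹ = coord e f q * t := by
      rw [← mul_inv_eq_iff_eq_mul, ← h.coord_neg F.he F.hf, ht, hg, hgq, neg_neg]
    rw [show coord e f q * (coord e f q * t) * (coord e f q)⁻¹ =
      coord e f q * coord e f q * (t * (coord e f q)⁻¹) by group, h2, ← mul_assoc,
      ← h.coord_add F.he F.hf, ← h.coord_add F.he F.hf]
    have h3 : q + q + q = 0 := (by decide : ∀ v : Fin 3 × Fin 3, v + v + v = 0) q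
    rw [h3, coord_zero, one_mul]

theorem Frame.half (hS : Setting S) (F : Frame S e f ρ σ) : Half S e f σ := by
  refine ⟨F.he, F.hf, F.bij hS, F.σ2, ?_, ?_, ?_, F.inv hS, F.fusA hS, F.fusB hS⟩
  · have := F.actσ (1, 0)
    simpa [coord, flipSnd] using this
  · have := F.actσ (0, 1)
    rw [show flipSnd (0, 1) = -(0, 1) from rfl, (F.eighteen hS).coord_neg F.he F.hf] at this
    simpa [coord] using this
  · have := F.reverse hS F.σ2 flipSnd (by decide) (by decide) F.actσ (1, 0)
    simpa [coord] using this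

theorem Frame.coord_swap (hS : Setting S) (F : Frame S e f ρ σ) : ∀ p,
    coord (coord e f (1, 1)) (coord e f (2, 1)) p = coord e f (swapClass p) := by
  intro p
  have h := F.eighteen hS
  have hpow : ∀ (v : Fin 3 × Fin 3) (i : Fin 3), coord e f v ^ (i : ℕ) =
      coord e f (i * v.1, i * v.2) := by
    intro v i
    fin_cases i
    · simp [coord]
    · simp
    · simp only [Fin.reduceFinMk]
      rw [pow_two, ← h.coord_add F.he F.hf]
      congr 1
      revert v
      decide
  rw [show coord (coord e f (1, 1)) (coord e f (2, 1)) p =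
    coord e f (1, 1) ^ (p.1 : ℕ) * coord e f (2, 1) ^ (p.2 : ℕ) from rfl, hpow, hpow,
    ← h.coord_add F.he F.hf]
  congr 1
  revert p
  decide

theorem Frame.half_swap (hS : Setting S) (F : Frame S e f ρ σ) :
    ∃ t, Half S (coord e f (1, 1)) (coord e f (2, 1)) t := by
  obtain ⟨t, -, ht2, ht⟩ := F.exists_reflection hS (1, 1) (by simp)
  refine ⟨t, coord_mem F.he F.hf _, coord_mem F.he F.hf _, ?_, ht2, ?_, ?_, ?_, F.inv hS, ?_, ?_⟩
  · have h2 : Function.Bijective swapClass := by decide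
    convert (F.bij hS).comp h2 using 1
    funext p
    exact Subtype.ext (F.coord_swap hS p)
  · rw [ht, if_neg (by decide)]
    rfl
  · rw [ht, if_neg (by decide), ← (F.eighteen hS).coord_neg F.he F.hf]
    rfl
  · exact F.reverse hS ht2 (fun p => flipSnd (rot^[3] p)) (by decide) (by decide)
      (fun p => by rw [ht, if_neg (by decide)]) (1, 1)
  · intro p
    rw [F.coord_swap hS, F.coord_swap hS, show swapClass (1, 0) = (1, 1) from rfl, F.fusB hS]
    revert p
    decide
  · intro p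
    have hc : IsConj (coord e f (1, 0)) (coord e f (swapClass (1, 1))) := (F.fusA hS _).2 (by decide)
    rw [F.coord_swap hS, F.coord_swap hS]
    have hiff : IsConj (coord e f (swapClass (1, 1))) (coord e f (swapClass p)) ↔
        RA (swapClass p) :=
      ⟨fun hp => (F.fusA hS _).1 (hc.trans hp), fun hp => hc.symm.trans ((F.fusA hS _).2 hp)⟩
    rw [hiff]
    exact (by decide : ∀ v : Fin 3 × Fin 3, RA (swapClass v) ↔ RB v) p

/-- A non-identity element of `S` fixes no other Sylow 3-subgroup. -/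
theorem Setting.sylow_fixed (hS : Setting S) {P : Sylow 3 G} (hP : (P : Subgroup G) = S) :
    ∀ (Q : Sylow 3 G) (s : S), s ≠ 1 → (s : G) • Q = Q → Q = P := by
  haveI : Fact (Nat.Prime 3) := ⟨Nat.prime_three⟩
  intro Q s hs1 hQ
  have hsN : (s : G) ∈ normalizer ((Q : Subgroup G) : Set G) := by
    exact Sylow.smul_eq_iff_mem_normalizer.1 hQ
  have hs3 : (s : G) ^ 3 ^ 1 = 1 := by rw [pow_one]; exact hS.exp3 _ s.2
  have hpg := Q.isPGroup'.to_sup_of_normal_left' (isPGroup_zpowers_pow hs3) (zpowers_le.2 hsN)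
  have hsQ : (s : G) ∈ (Q : Subgroup G) := by
    rw [← Q.is_maximal' hpg le_sup_left]
    exact mem_sup_right (mem_zpowers _)
  obtain ⟨g, hg⟩ := MulAction.exists_smul_eq G P Q
  have hmemQ : ∀ a ∈ S, g * a * g⁻¹ ∈ (Q : Subgroup G) := fun a ha => by
    rw [← hg, Sylow.coe_subgroup_smul]
    exact ⟨a, hP ▸ ha, rfl⟩
  rw [← hg, Sylow.coe_subgroup_smul] at hsQ
  obtain ⟨b, hb, hbs⟩ := hsQ
  have hbs' : g * b * g⁻¹ = s := hbs
  have hs1' : (s : G) ≠ 1 := fun e => hs1 (Subtype.ext e)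
  refine Sylow.ext (eq_of_le_of_card_ge ?_ (by
    rw [← hg, Sylow.coe_subgroup_smul]
    exact (Nat.card_congr (Subgroup.equivSMul _ _).toEquiv).le))
  intro x hx
  rw [← hg, Sylow.coe_subgroup_smul] at hx
  obtain ⟨a, ha, rfl⟩ := hx
  show g * a * g⁻¹ ∈ (P : Subgroup G)
  rw [hP]
  have hcx : Commute (g * a * g⁻¹) (s : G) := hbs' ▸ (Commute.conj_iff g).2
    (hS.comm _ (hP ▸ ha) _ (hP ▸ hb))
  have hxN := hS.cent_le _ s.2 hs1' (mem_centralizer_singleton_iff.2 hcx.eq)
  have hx3 : (g * a * g⁻¹) ^ 3 ^ 1 = 1 := by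
    rw [pow_one, conj_pow, hS.exp3 a (hP ▸ ha), mul_one, mul_inv_cancel]
  have hpg' := (hP ▸ P.isPGroup').to_sup_of_normal_left' (isPGroup_zpowers_pow hx3)
    (zpowers_le.2 hxN)
  have := P.is_maximal' hpg' (hP ▸ le_sup_left)
  rw [← hP, ← this]
  exact mem_sup_right (mem_zpowers _)

/-- The number of Sylow 3-subgroups is congruent to 1 modulo 9. -/
theorem Setting.index_mod (hS : Setting S) : (normalizer (S : Set G)).index % 9 = 1 := by
  haveI : Fact (Nat.Prime 3) := ⟨Nat.prime_three⟩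
  obtain ⟨P, hP⟩ := hS.sylow
  have hn : (normalizer (S : Set G)).index = Nat.card (Sylow 3 G) := by
    rw [← hP]; exact (Sylow.card_eq_index_normalizer P).symm
  rw [hn]
  have hsyl := hS.sylow_fixed hP
  have hfixP : ∀ s : S, (s : G) • P = P := fun s =>
    Sylow.smul_eq_iff_mem_normalizer.2 (le_normalizer (hP ▸ s.2))
  let X := {Q : Sylow 3 G // Q ≠ P}
  letI : MulAction S X :=
    { smul := fun s Q => ⟨(s : G) • Q.1, fun h => Q.2 (by
        exact MulAction.injective _ (h.trans (hfixP s).symm))⟩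
      one_smul := fun Q => Subtype.ext (one_smul G Q.1)
      mul_smul := fun a b Q => Subtype.ext (mul_smul (a : G) b Q.1) }
  have hstab : ∀ Q : X, MulAction.stabilizer S Q = ⊥ := fun Q => by
    refine eq_bot_iff.2 fun s hs => ?_
    rw [mem_bot]
    by_contra hs1
    exact Q.2 (hsyl Q.1 s hs1 (congrArg Subtype.val (MulAction.mem_stabilizer_iff.1 hs)))
  have h9 : 9 ∣ Nat.card X := by
    rw [Nat.card_congr (MulAction.selfEquivSigmaOrbitsQuotientStabilizer S X), Nat.card_sigma]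
    refine Finset.dvd_sum fun ω _ => ?_
    rw [hstab, ← Subgroup.index_eq_card, Subgroup.index_bot, hS.card]
  have hcard : Nat.card (Sylow 3 G) = Nat.card X + 1 := by
    rw [← Nat.card_congr (Equiv.sumCompl (fun Q : Sylow 3 G => Q ≠ P)), Nat.card_sum]
    congr 1
    rw [Nat.card_eq_one_iff_unique]
    exact ⟨⟨fun a b => Subtype.ext ((not_not.1 a.2).trans (not_not.1 b.2).symm)⟩,
      ⟨⟨P, not_not.2 rfl⟩⟩⟩
  omega

theorem Setting.card_eq_720 (hS : Setting S) (hnn : ¬ S.Normal) : Nat.card G = 720 := by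
  obtain ⟨e, f, ρ, σ, F⟩ := hS.exists_frame
  have h := F.eighteen hS
  have H := F.half hS
  obtain ⟨t', H'⟩ := F.half_swap hS
  set e' := coord e f (1, 1) with he'
  set f' := coord e f (2, 1)
  have hN := hS.card_normalizer
  set n := (normalizer (S : Set G)).index with hn
  have hG : Nat.card G = 72 * n := by
    rw [← hN, hn, Subgroup.card_mul_index]
  have hn1 : 1 < n := by
    refine Subgroup.one_lt_index_of_ne_top fun htop => hnn ?_
    exact normalizer_eq_top_iff.1 htop
  -- values on the five representatives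
  choose d a b g τ hd0 hd ha hb hg hτ hmod3 hmod9 hnn0 hnn1 hpar height using
    fun χ => H.values h χ
  choose d' b' a' k τ' hd0' hd' hb' ha' hk hτ' hmod3' hmod9' hnn0' hnn1' hpar' height' using
    fun χ => H'.values h χ
  have hdd' : d' = d := funext fun χ => by
    have := (hd' χ).symm.trans (hd χ)
    exact_mod_cast this
  subst hdd'
  have hbb : b' = b := funext fun χ => by
    have h1 := hb' χ
    rw [he', coord_diag, hb χ] at h1
    exact_mod_cast h1.symm
  have haa : a' = a := funext fun χ => by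
    have h1 := ha' χ
    rw [show e' * f' = coord e f (0, 2) by
      rw [← h.coord_add F.he F.hf]; congr 1,
      ← Char.isClassFunction_eq_of_isConj (Char.irr_isClassFunction χ.2) ((F.fusA hS (0, 2)).2
        (by decide)), coord_fst, ha χ] at h1
    exact_mod_cast h1.symm
  subst hbb haa
  obtain ⟨c1, c2, c3, c4, c5, c6, c7, c8, c9⟩ := H.columns h d' a' b' g hd ha hb hg
  obtain ⟨-, -, -, k4, k5, k6, k7, k8, k9⟩ := H'.columns h d' b' a' k hd' hb' ha' hk
  have htriv1 : ∀ x, ((Char.trivialIrr G : IrrCharacter G) : G → ℂ) x = 1 := fun x => rfl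
  have hgh : ∑ χ, g χ * k χ = 0 := by
    have h1 := Char.sum_irr_mul_conj (e * σ) (e' * t')
    have hnc : ¬ IsConj (e * σ) (e' * t') := by
      intro hc
      have hp4 : ∀ {x s : G}, s * x * s⁻¹ = x → x ∈ S → s * s = 1 → (x * s) ^ 4 = x := by
        intro x s hxs hx hs
        have hcm : Commute x s := (mul_inv_eq_iff_eq_mul.1 hxs).symm
        rw [hcm.mul_pow,
          show 4 = 3 + 1 from rfl, pow_succ x, h.exp3 x hx, one_mul,
          show 3 + 1 = 2 * 2 from rfl, pow_mul, pow_two s, hs, one_pow, mul_one]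
      obtain ⟨c, hc'⟩ := isConj_iff.1 hc
      have h4 := congrArg (fun y => y ^ 4) hc'
      simp only [conj_pow] at h4
      rw [hp4 H.te F.he H.t2, hp4 H'.te H'.he H'.t2] at h4
      have h5 : IsConj (coord e f (1, 0)) (coord e f (1, 1)) :=
        isConj_iff.2 ⟨c, by rw [coord_fst]; exact h4⟩
      rw [F.fusA hS] at h5
      revert h5
      decide
    rw [if_neg hnc] at h1
    simp only [hg, hk, map_intCast] at h1
    exact_mod_cast h1
  have hdsum : ∑ χ, d' χ ^ 2 = 72 * n := by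
    have h1 := Char.sum_irr_degree_sq (G := G)
    simp only [hd, hG] at h1
    exact_mod_cast h1
  have hlin : ∀ χ : IrrCharacter G, d' χ = 1 → ∃ F' : G →* ℂˣ, ∀ x, (χ : G → ℂ) x = (F' x : ℂ) :=
    fun χ h1 => Char.exists_monoidHom_of_degree_one (Char.isCharacter_of_irr χ.2)
      (by rw [hd, h1, Nat.cast_one])
  have hlinab : ∀ χ : IrrCharacter G, d' χ = 1 → a' χ = 1 ∧ b' χ = 1 := by
    intro χ h1
    obtain ⟨L, hL⟩ := hlin χ h1
    have hcube : ∀ {x : G} {v : ℤ}, x ∈ S → (χ : G → ℂ) x = v → v = 1 := by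
      intro x v hx hv
      have h2 : ((v ^ 3 : ℤ) : ℂ) = ((1 : ℤ) : ℂ) := by
        push_cast
        rw [← hv, hL, ← Units.val_pow_eq_pow_val, ← map_pow, h.exp3 x hx, map_one, Units.val_one]
      exact (Odd.strictMono_pow (R := ℤ) (n := 3) (by decide)).injective
        (by simpa using Int.cast_injective h2)
    exact ⟨hcube F.he (ha χ), hcube (S.mul_mem F.he F.hf) (hb χ)⟩
  have hofhom : ∀ L : G →* ℂˣ, ∃ m : IrrCharacter G, d' m = 1 ∧ (L (e * σ) : ℂ) = g m ∧
      (L (e' * t') : ℂ) = k m ∧ (L e : ℂ) = 1 ∧ (L e' : ℂ) = 1 := by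
    intro L
    refine ⟨⟨_, Char.isIrrCharacter_monoidHom L⟩, ?_⟩
    set m : IrrCharacter G := ⟨_, Char.isIrrCharacter_monoidHom L⟩
    have hdm : d' m = 1 := by
      have h2 : (m : G → ℂ) 1 = 1 := by simp [m]
      rw [hd] at h2
      exact_mod_cast h2
    obtain ⟨e1, e2⟩ := hlinab m hdm
    refine ⟨hdm, hg m, hk m, ?_, ?_⟩
    · have := ha m; rw [e1] at this; simpa [m] using this
    · have := hb m; rw [e2, ← coord_diag, ← he'] at this; simpa [m] using this
  have D : Columns (Char.trivialIrr G) d' a' b' g k n := by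
    refine ⟨hd0, ?_, ?_, ?_, ?_, ?_, c1, c2, c3, c4, k4, hgh, c5, c6, k6, k5, c7, k7, c8, k8, hdsum,
      hn ▸ hS.index_mod, hn1, hmod3, hmod9, hnn0, hnn1, hnn1', hpar, hpar', ?_, ?_, ?_, hlinab, ?_⟩
    · exact_mod_cast ((hd _).symm.trans (htriv1 _))
    · exact_mod_cast ((ha _).symm.trans (htriv1 _))
    · exact_mod_cast ((hb _).symm.trans (htriv1 _))
    · exact_mod_cast ((hg _).symm.trans (htriv1 _))
    · exact_mod_cast ((hk _).symm.trans (htriv1 _))
    · rw [← hG]; exact c9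
    · rw [← hG]; exact k9
    · intro χ h8 ha8 hb8
      obtain ⟨hg2, hτg⟩ := height χ h8 ha8 hb8
      obtain ⟨hk2, hτk⟩ := height' χ h8 hb8 ha8
      have hχ := Char.isCharacter_of_irr χ.2
      have hL := CharExt.detChar_isLin (G := G) (χ : G → ℂ)
      obtain ⟨m, hm, hmg, hmk, hme, hme'⟩ := hofhom hL.toHom
      have hneg : ∀ {x : G} {v T : ℤ}, x * x = 1 → (χ : G → ℂ) x = T → v * v = 1 → T = -2 * v →
          (hL.toHom x : ℂ) = -1 := by
        intro x v T hx hT hv hTv
        obtain ⟨j, hj, hdet⟩ := detChar_involution hχ (by rw [pow_two, hx]) (hd χ) hT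
        rw [CharExt.IsLin.toHom_apply, hdet, Odd.neg_one_pow]
        rw [h8, hTv] at hj
        rcases unit_or hv with rfl | rfl <;> push_cast at hj
        · exact ⟨2, by omega⟩
        · exact ⟨1, by omega⟩
      refine ⟨m, hm, ?_, ?_⟩
      · rw [map_mul, Units.val_mul, hme, hneg H.t2 (hτ χ) hg2 hτg, one_mul] at hmg
        exact_mod_cast hmg.symm
      · rw [map_mul, Units.val_mul, hme', hneg H'.t2 (hτ' χ) hk2 hτk, one_mul] at hmk
        exact_mod_cast hmk.symm
    · intro i j hi hj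
      obtain ⟨L, hL⟩ := hlin i hi
      obtain ⟨M, hM⟩ := hlin j hj
      obtain ⟨m, hm, hmg, hmk, -⟩ := hofhom (L * M)
      refine ⟨m, hm, ?_, ?_⟩
      · rw [MonoidHom.mul_apply, Units.val_mul, ← hL, ← hM, hg, hg] at hmg
        exact_mod_cast hmg.symm
      · rw [MonoidHom.mul_apply, Units.val_mul, ← hL, ← hM, hk, hk] at hmk
        exact_mod_cast hmk.symm
  have := order_eq_ten D
  rw [hG, this]

end Cfsg.Agent.SixSym
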